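import Cfsg.Agent.PolarSteinberg52.Count
import Mathlib.GroupTheory.Perm.Sign
import Mathlib.Logic.Equiv.Fintype

/-!
Hyperbolic frames, their signed flags, and the isometry exchanging the two halves.
-/

set_option autoImplicit false

namespace Cfsg.Agent.PolarSteinberg52

universe u v w

open Module

variable {K : Type u} {V : Type v} {T : Type w} [Field K] [AddCommGroup V] [Module K V]
  [AddCommGroup T]

/-- An isometry. -/
def IsIso (P : PForm K V T) (g : V ≃ₗ[K] V) : Prop :=
  (∀ u v, P.B (g u) (g v) = P.B u v) ∧ ∀ v, P.q0 (g v) = P.q0 v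

/-- Hyperbolic pairs. -/
structure Frame (P : PForm K V T) (m : ℕ) where
  /-- first half -/
  e : Fin m → V
  /-- second half -/
  f : Fin m → V
  qe : ∀ i, P.q0 (e i) = 0
  qf : ∀ i, P.q0 (f i) = 0
  ee : ∀ i j, P.B (e i) (e j) = 0
  ff : ∀ i j, P.B (f i) (f j) = 0
  ef : ∀ i j, P.B (e i) (f j) = if i = j then 1 else 0

variable {P : PForm K V T} {m : ℕ}

theorem ε_ne_zero (P : PForm K V T) : P.ε ≠ 0 := fun h => by
  have := P.εε
  rw [h, zero_mul] at this
  exact zero_ne_one this

namespace Frame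

variable (F : Frame P m)

theorem fe (i j : Fin m) : P.B (F.f i) (F.e j) = if i = j then P.ε else 0 := by
  rw [P.symm, F.ef]
  by_cases h : i = j
  · subst h; simp
  · simp [h, Ne.symm h]

/-- The component in the hyperbolic part. -/
noncomputable def proj (v : V) : V :=
  ∑ i, (P.B v (F.f i) • F.e i + (P.B v (F.e i) / P.ε) • F.f i)

theorem rest_perp (v : V) (i : Fin m) :
    P.B (v - F.proj v) (F.e i) = 0 ∧ P.B (v - F.proj v) (F.f i) = 0 := by
  simp only [proj, map_sub, LinearMap.sub_apply, map_sum, LinearMap.sum_apply, map_add,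
    LinearMap.add_apply, map_smul, LinearMap.smul_apply, F.ee, F.ff, F.ef, F.fe, smul_eq_mul,
    mul_zero, zero_add, add_zero, mul_ite, mul_one, Finset.sum_ite_eq', Finset.mem_univ, if_true]
  constructor
  · rw [div_mul_cancel₀ _ (ε_ne_zero P), sub_self]
  · rw [sub_self]

end Frame

theorem q0_sum {ι : Type*} (s : Finset ι) (z : ι → V)
    (h : ∀ i ∈ s, ∀ j ∈ s, i ≠ j → P.B (z i) (z j) = 0) :
    P.q0 (∑ i ∈ s, z i) = ∑ i ∈ s, P.q0 (z i) := by
  classical
  induction s using Finset.induction_on with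
  | empty => simp [P.q0_zero]
  | insert a s ha ih =>
    rw [Finset.sum_insert ha, Finset.sum_insert ha, P.q0_add,
      ih fun i hi j hj => h i (Finset.mem_insert_of_mem hi) j (Finset.mem_insert_of_mem hj), map_sum,
      Finset.sum_eq_zero fun i hi => h a (Finset.mem_insert_self a s) i (Finset.mem_insert_of_mem hi)
        fun e => ha (e ▸ hi), map_zero, add_zero]

variable [FiniteDimensional K V]

theorem perp_top (P : PForm K V T) : P.perp ⊤ = ⊥ :=
  le_bot_iff.1 fun v hv => (Submodule.mem_bot K).2 (P.nondeg v fun w => hv w Submodule.mem_top)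

theorem inf_perp_symm {A X : Submodule K V} (hd : finrank K A = finrank K X)
    (h : X ⊓ P.perp A = ⊥) : A ⊓ P.perp X = ⊥ := by
  have h1 : X ⊔ P.perp A = ⊤ := by
    refine Submodule.eq_top_of_finrank_eq ?_
    have h2 := Submodule.finrank_sup_add_finrank_inf_eq X (P.perp A)
    rw [h, finrank_bot] at h2
    have h3 := P.finrank_perp A
    omega
  have h4 := congrArg P.perp h1
  rw [P.perp_sup, P.perp_perp, perp_top] at h4
  rw [inf_comm]; exact h4

/-- Spans of initial segments. -/
def initSpan (K : Type u) [Field K] [Module K V] (c : Fin m → V) (i : ℕ) : Submodule K V :=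
  Submodule.span K (c '' {j | (j : ℕ) < i})

theorem initSpan_succ (c : Fin m → V) {i : ℕ} (hi : i < m) :
    initSpan K c (i + 1) = initSpan K c i ⊔ Submodule.span K {c ⟨i, hi⟩} := by
  rw [initSpan, initSpan, ← Submodule.span_union, ← Set.image_singleton, ← Set.image_union]
  congr 2
  ext j
  simp only [Set.mem_setOf_eq, Set.mem_union, Set.mem_singleton_iff, Fin.ext_iff]
  omega

theorem mem_initSpan (c : Fin m → V) {i : ℕ} {j : Fin m} (h : (j : ℕ) < i) : c j ∈ initSpan K c i :=
  Submodule.subset_span ⟨j, h, rfl⟩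

theorem sub_eq_initSpan (x : Chamber P m) (c : Fin m → V)
    (hc : ∀ i : Fin m, c i ∈ x.sub (i + 1) ∧ c i ∉ x.sub i) :
    ∀ i ≤ m, x.sub i = initSpan K c i := by
  intro i
  induction i with
  | zero => intro _; rw [x.sub_zero, initSpan]; simp
  | succ i ih =>
    intro hi
    rw [initSpan_succ c (show i < m by omega), ← ih (by omega)]
    exact (sup_eq_of_finrank (x.mono (by omega)) (hc ⟨i, by omega⟩).1 (hc ⟨i, by omega⟩).2
      (by rw [x.rank, x.rank]; omega)).symm

/-- A frame adapted to two opposite flags. -/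
theorem exists_frame {a x : Chamber P m} (h : Opp 0 a x) :
    ∃ F : Frame P m, (∀ i ≤ m, a.sub i = initSpan K F.e i) ∧ ∀ i ≤ m, x.sub i = initSpan K F.f i := by
  have hx : ∀ i, x.sub i ⊓ P.perp (a.sub i) = ⊥ := by
    intro i
    rcases Nat.eq_zero_or_pos i with rfl | hi
    · rw [x.sub_zero, bot_inf_eq]
    rcases le_or_gt i m with him | him
    · rw [h.2 i hi him, a.sub_zero]
    · rw [x.sub_of_le him.le, a.sub_of_le him.le]
      rcases Nat.eq_zero_or_pos m with hm | hm
      · subst hm; rw [x.sub_zero, bot_inf_eq]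
      · rw [h.2 m hm le_rfl, a.sub_zero]
  have ha : ∀ i, a.sub i ⊓ P.perp (x.sub i) = ⊥ := fun i =>
    inf_perp_symm (by rw [a.rank, x.rank]) (hx i)
  have hvec : ∀ (a x : Chamber P m), (∀ i, a.sub i ⊓ P.perp (x.sub i) = ⊥) → ∀ i : Fin m,
      ∃ v, v ∈ a.sub (i + 1) ∧ v ∈ P.perp (x.sub i) ∧ v ∉ a.sub i := by
    intro a x h' i
    have h1 : 0 < finrank K ↥(a.sub (i + 1) ⊓ P.perp (x.sub i)) := by
      have h2 := Submodule.finrank_sup_add_finrank_inf_eq (a.sub (i + 1)) (P.perp (x.sub i))
      have h3 := (a.sub (i + 1) ⊔ P.perp (x.sub i)).finrank_le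
      have h4 := P.finrank_perp (x.sub i)
      rw [a.rank] at h2
      rw [x.rank] at h4
      omega
    obtain ⟨v, hv, hv0⟩ := Submodule.exists_mem_ne_zero_of_ne_bot (fun e => by
      rw [e, finrank_bot] at h1; omega : a.sub (i + 1) ⊓ P.perp (x.sub i) ≠ ⊥)
    exact ⟨v, hv.1, hv.2, fun hva => hv0 ((Submodule.mem_bot K).1 ((h' i).le ⟨hva, hv.2⟩))⟩
  choose e' he1 he2 he3 using hvec a x ha
  choose f' hf1 hf2 hf3 using hvec x a hx
  have hne : ∀ i : Fin m, P.B (e' i) (f' i) ≠ 0 := by
    intro i h0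
    have h1 : f' i ∈ P.perp (a.sub (i + 1)) := by
      rw [← sup_eq_of_finrank (a.mono (Nat.le_succ i)) (he1 i) (he3 i)
        (by rw [a.rank, a.rank]; omega), P.perp_sup]
      exact ⟨hf2 i, P.mem_perp_span.2 (P.refl _ _ h0)⟩
    have h2 : f' i = 0 := (Submodule.mem_bot K).1 ((hx (i + 1)).le ⟨hf1 i, h1⟩)
    exact hf3 i (h2 ▸ zero_mem _)
  refine ⟨⟨fun i => (P.B (e' i) (f' i))⁻¹ • e' i, f',
    fun i => P.q0_smul _ _ ((a.ts _).q0_eq _ (he1 i)), fun i => (x.ts _).q0_eq _ (hf1 i),
    fun i j => ?_, fun i j => ?_, fun i j => ?_⟩, ?_, sub_eq_initSpan x f' fun i => ⟨hf1 i, hf3 i⟩⟩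
  · exact (a.ts m).le_perp (Submodule.smul_mem _ _ (a.mono (by omega) (he1 i))) _
      (Submodule.smul_mem _ _ (a.mono (by omega) (he1 j)))
  · exact (x.ts m).le_perp (x.mono (by omega) (hf1 i)) _ (x.mono (by omega) (hf1 j))
  · rw [map_smul, LinearMap.smul_apply, smul_eq_mul]
    rcases lt_trichotomy i j with hij | rfl | hij
    · rw [if_neg hij.ne, P.refl _ _ (hf2 j _ (a.mono (by omega) (he1 i))), mul_zero]
    · rw [if_pos rfl, inv_mul_cancel₀ (hne i)]
    · rw [if_neg hij.ne', he2 i _ (x.mono (by omega) (hf1 j)), mul_zero]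
  · refine sub_eq_initSpan a _ fun i => ⟨Submodule.smul_mem _ _ (he1 i), fun h => he3 i ?_⟩
    exact (Submodule.smul_mem_iff _ (inv_ne_zero (hne i))).1 h

namespace Frame

variable (F : Frame P m)

/-- The vector of a signed place. -/
def vec (w : Equiv.Perm (Fin m) × (Fin m → Bool)) (j : Fin m) : V :=
  if w.2 j then F.f (w.1 j) else F.e (w.1 j)

theorem vec_q (w : Equiv.Perm (Fin m) × (Fin m → Bool)) (j : Fin m) : P.q0 (F.vec w j) = 0 := by
  unfold vec; split_ifs
  exacts [F.qf _, F.qe _]

theorem vec_perp (w : Equiv.Perm (Fin m) × (Fin m → Bool)) (i j : Fin m) :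
    P.B (F.vec w i) (F.vec w j) = 0 := by
  unfold vec
  rcases eq_or_ne i j with rfl | hij
  · split_ifs
    exacts [F.ff _ _, F.ee _ _]
  · split_ifs <;> simp [F.ee, F.ff, F.ef, F.fe, w.1.injective.ne hij]

theorem initSpan_ts (w : Equiv.Perm (Fin m) × (Fin m → Bool)) (i : ℕ) :
    P.TS (initSpan K (F.vec w) i) := by
  have hp : initSpan K (F.vec w) i ≤ P.perp (initSpan K (F.vec w) i) := by
    refine Submodule.span_le.2 ?_
    rintro _ ⟨a, -, rfl⟩
    have : initSpan K (F.vec w) i ≤ P.perp (Submodule.span K {F.vec w a}) := Submodule.span_le.2 (by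
      rintro _ ⟨b, -, rfl⟩
      exact P.mem_perp_span.2 (F.vec_perp w b a))
    exact fun y hy => P.refl _ _ (P.mem_perp_span.1 (this hy))
  refine ⟨fun v hv => ?_, hp⟩
  induction hv using Submodule.span_induction with
  | mem v hv =>
    obtain ⟨a, -, rfl⟩ := hv
    exact F.vec_q w a
  | zero => exact P.q0_zero
  | add a b ha hb iha ihb =>
    rw [P.q0_add, iha, ihb, hp ha b hb, map_zero, add_zero, add_zero]
  | smul c a _ iha => exact P.q0_smul c a iha

theorem vec_indep (w : Equiv.Perm (Fin m) × (Fin m → Bool)) :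
    LinearIndependent K (F.vec w) := by
  rw [Fintype.linearIndependent_iff]
  intro g hg i
  have h := congrArg (fun v => P.B v (F.vec (w.1, fun j => !w.2 j) i)) hg
  simp only [map_sum, LinearMap.sum_apply, map_smul, LinearMap.smul_apply, smul_eq_mul, map_zero,
    LinearMap.zero_apply] at h
  rw [Finset.sum_eq_single i (fun j _ hji => by
    simp only [vec]
    cases w.2 i <;> cases w.2 j <;> simp [F.ee, F.ff, F.ef, F.fe, w.1.injective.ne hji])
    (fun h => absurd (Finset.mem_univ i) h)] at h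
  refine (mul_eq_zero.1 h).resolve_right ?_
  simp only [vec]
  cases w.2 i <;> simp [F.ef, F.fe, ε_ne_zero P]

theorem finrank_initSpan {c : Fin m → V} (hc : LinearIndependent K c) :
    ∀ i, finrank K (initSpan K c i) = min i m := by
  intro i
  rw [initSpan, show ({j : Fin m | (j : ℕ) < i}) = Set.range (fun j : Fin (min i m) =>
    (⟨j, lt_of_lt_of_le j.2 (min_le_right _ _)⟩ : Fin m)) by
      ext j
      simp only [Set.mem_setOf_eq, Set.mem_range]
      exact ⟨fun h => ⟨⟨j, lt_min h j.2⟩, rfl⟩, by rintro ⟨k, rfl⟩; exact lt_of_lt_of_le k.2 (min_le_left _ _)⟩,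
    ← Set.range_comp]
  have h := hc.comp (fun j : Fin (min i m) => (⟨j, lt_of_lt_of_le j.2 (min_le_right _ _)⟩ : Fin m))
    fun a b e => Fin.ext (congrArg Fin.val e :)
  exact (finrank_span_eq_card h).trans (Fintype.card_fin _)

/-- The flag of a signed permutation. -/
def chamber (w : Equiv.Perm (Fin m) × (Fin m → Bool)) : Chamber P m where
  sub := initSpan K (F.vec w)
  rank := finrank_initSpan (F.vec_indep w)
  mono := fun i j hij => Submodule.span_mono (Set.image_mono fun a ha => lt_of_lt_of_le ha hij)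
  ts := F.initSpan_ts w

/-- The sign. -/
def sgn (w : Equiv.Perm (Fin m) × (Fin m → Bool)) : ℂ :=
  ((Equiv.Perm.sign w.1 : ℤ) : ℂ) * ∏ j, if w.2 j then (-1 : ℂ) else 1

/-- The apartment function. -/
noncomputable def aptFun : Chamber P m → ℂ := by
  classical
  exact fun x => ∑ w : Equiv.Perm (Fin m) × (Fin m → Bool), if F.chamber w = x then sgn w else 0

theorem aptFun_mem [Fintype (Chamber P m)] : F.aptFun ∈ panelSpace := by
  classical
  rw [mem_panelSpace]
  intro i hi him x
  simp only [aptFun]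
  rw [Finset.sum_comm]
  simp only [Finset.sum_ite_eq, Finset.mem_filter, Finset.mem_univ, true_and]
  rw [← Finset.sum_filter]
  -- the involution attached to the panel type
  let S : Equiv.Perm (Fin m) × (Fin m → Bool) → Equiv.Perm (Fin m) × (Fin m → Bool) := fun w =>
    if h : i < m then
      (w.1 * Equiv.swap ⟨i - 1, by omega⟩ ⟨i, h⟩, w.2 ∘ Equiv.swap ⟨i - 1, by omega⟩ ⟨i, h⟩)
    else (w.1, Function.update w.2 ⟨i - 1, by omega⟩ (!w.2 ⟨i - 1, by omega⟩))
  have hsgn : ∀ w, sgn (S w) = -sgn w := by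
    intro w
    by_cases h : i < m
    · simp only [S, dif_pos h, sgn, Function.comp_apply]
      rw [Equiv.Perm.sign_mul, Equiv.Perm.sign_swap (by simp [Fin.ext_iff]; omega),
        Equiv.prod_comp (Equiv.swap (⟨i - 1, by omega⟩ : Fin m) ⟨i, h⟩)
          (fun j => if w.2 j then (-1 : ℂ) else 1)]
      simp
    · simp only [S, dif_neg h, sgn]
      rw [← Finset.mul_prod_erase Finset.univ _ (Finset.mem_univ (⟨i - 1, by omega⟩ : Fin m)),
        ← Finset.mul_prod_erase Finset.univ (fun j => if w.2 j then (-1 : ℂ) else 1)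
          (Finset.mem_univ (⟨i - 1, by omega⟩ : Fin m)),
        Finset.prod_congr rfl fun j hj => by
          rw [Function.update_of_ne (Finset.ne_of_mem_erase hj)]]
      rw [Function.update_self]
      cases w.2 ⟨i - 1, by omega⟩ <;> simp
  have hinv : ∀ w, S (S w) = w := by
    intro w
    by_cases h : i < m
    · simp only [S, dif_pos h, mul_assoc, Equiv.swap_mul_self, mul_one]
      refine Prod.ext rfl (funext fun j => ?_)
      simp [Equiv.swap_apply_self]
    · simp [S, dif_neg h, Function.update_idem]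
  have hoff : ∀ w, ∀ j ≤ m, j ≠ i → (F.chamber (S w)).sub j = (F.chamber w).sub j := by
    intro w j hj hji
    show initSpan K (F.vec (S w)) j = initSpan K (F.vec w) j
    unfold initSpan
    congr 1
    by_cases h : i < m
    · have hset : ∀ k : Fin m,
          (Equiv.swap (⟨i - 1, by omega⟩ : Fin m) ⟨i, h⟩ k : ℕ) < j ↔ (k : ℕ) < j := by
        intro k
        rw [Equiv.swap_apply_def]
        split_ifs with h1 h2
        · subst h1; simp; omega
        · subst h2; simp; omega
        · rfl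
      have hvec : ∀ k, F.vec (S w) k = F.vec w (Equiv.swap ⟨i - 1, by omega⟩ ⟨i, h⟩ k) := fun k => by
        simp [S, dif_pos h, vec]
      ext v
      simp only [Set.mem_image, Set.mem_setOf_eq, hvec]
      constructor
      · rintro ⟨k, hk, rfl⟩; exact ⟨_, (hset k).2 hk, rfl⟩
      · rintro ⟨k, hk, rfl⟩
        exact ⟨Equiv.swap ⟨i - 1, by omega⟩ ⟨i, h⟩ k, (hset k).2 hk, by rw [Equiv.swap_apply_self]⟩
    · refine Set.image_congr fun k hk => ?_
      have hk' : k ≠ ⟨i - 1, by omega⟩ := by
        intro e; subst e; simp only [Set.mem_setOf_eq] at hk; omega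
      simp [S, dif_neg h, vec, Function.update_of_ne hk']
  refine Finset.sum_involution (fun w _ => S w) (fun w _ => by rw [hsgn, add_neg_cancel])
    (fun w _ hw0 e => hw0 ?_) (fun w hw => ?_) fun w _ => hinv w
  · have := hsgn w
    rw [e] at this
    linear_combination this / 2
  · refine Finset.mem_filter.2 ⟨Finset.mem_univ _, fun j hj hji => ?_⟩
    rw [hoff w j hj hji]
    exact (Finset.mem_filter.1 hw).2 j hj hji

theorem sgn_ne_zero (w : Equiv.Perm (Fin m) × (Fin m → Bool)) : sgn w ≠ 0 := by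
  refine mul_ne_zero (by exact_mod_cast Units.ne_zero _) (Finset.prod_ne_zero_iff.2 fun j _ => ?_)
  split_ifs <;> norm_num

/-- Only one signed flag is opposite to the first one. -/
theorem eq_of_opp {w : Equiv.Perm (Fin m) × (Fin m → Bool)}
    (h : ∀ i, 1 ≤ i → i ≤ m → initSpan K (F.vec w) i ⊓ P.perp (initSpan K F.e i) = ⊥) :
    w = (1, fun _ => true) := by
  have key : ∀ i, 1 ≤ i → i ≤ m → ∀ j : Fin m, (j : ℕ) < i →
      w.2 j = true ∧ ((w.1 j : Fin m) : ℕ) < i := by
    intro i hi him j hj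
    by_contra hbad
    have hmem : F.vec w j ∈ P.perp (initSpan K F.e i) := by
      have : initSpan K F.e i ≤ P.perp (Submodule.span K {F.vec w j}) := Submodule.span_le.2 (by
        rintro _ ⟨k, hk, rfl⟩
        refine P.mem_perp_span.2 ?_
        simp only [vec]
        split_ifs with hs
        · rw [F.ef, if_neg]
          intro e
          exact hbad ⟨hs, e ▸ hk⟩
        · exact F.ee _ _)
      exact fun y hy => P.refl _ _ (P.mem_perp_span.1 (this hy))
    exact (F.vec_indep w).ne_zero j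
      ((Submodule.mem_bot K).1 ((h i hi him).le ⟨mem_initSpan _ hj, hmem⟩))
  refine Prod.ext ?_ (funext fun j => (key (j + 1) (by omega) j.2 j (by omega)).1)
  refine Equiv.ext fun j => ?_
  suffices ∀ n, ∀ j : Fin m, (j : ℕ) = n → w.1 j = j from this _ j rfl
  intro n
  induction n using Nat.strong_induction_on with
  | _ n ih =>
    intro j hj
    have h1 := (key (j + 1) (by omega) j.2 j (by omega)).2
    rcases eq_or_lt_of_le (Nat.lt_succ_iff.1 h1) with h2 | h2
    · exact Fin.ext h2
    · have h3 := ih _ (by omega) (w.1 j) rfl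
      have h4 := w.1.injective h3
      rw [h4] at h2; omega

theorem vec_top : F.vec (1, fun _ => true) = F.f := funext fun j => by simp [vec]

variable [Fintype (Chamber P m)]

theorem aptFun_opp {a x : Chamber P m} (ha : ∀ i ≤ m, a.sub i = initSpan K F.e i)
    (hx : ∀ i ≤ m, x.sub i = initSpan K F.f i) :
    F.aptFun x ≠ 0 ∧ ∀ y, Opp 0 a y → y ≠ x → F.aptFun y = 0 := by
  classical
  have hw0 : F.chamber (1, fun _ => true) = x := Chamber.ext' fun i _ hi => by
    rw [hx i hi]
    show initSpan K (F.vec (1, fun _ => true)) i = _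
    rw [F.vec_top]
  have huniq : ∀ y, Opp 0 a y → ∀ w, F.chamber w = y → w = (1, fun _ => true) := by
    rintro y hy w rfl
    refine F.eq_of_opp fun i h1 h2 => ?_
    have := hy.2 i h1 h2
    rw [ha i h2, a.sub_zero] at this
    exact this
  have hxo : Opp 0 a x := by
    refine ⟨fun j hj => by rw [Nat.le_zero.1 hj, x.sub_zero, a.sub_zero], fun i h1 h2 => ?_⟩
    rw [ha i h2, hx i h2, a.sub_zero, eq_bot_iff]
    rintro v ⟨hv, hv'⟩
    obtain ⟨l, hl, rfl⟩ := (Finsupp.mem_span_image_iff_linearCombination K).1 hv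
    have hl0 : l = 0 := by
      ext k
      by_cases hk : k ∈ l.support
      · have h3 := hv' (F.e k) (mem_initSpan _ ((Finsupp.mem_supported K l).1 hl hk))
        simp only [Finsupp.linearCombination_apply, Finsupp.sum, map_sum, LinearMap.sum_apply,
          map_smul, LinearMap.smul_apply, F.fe, smul_eq_mul, mul_ite, mul_zero] at h3
        rw [Finset.sum_eq_single_of_mem k hk (fun j _ hjk => if_neg hjk), if_pos rfl] at h3
        exact (mul_eq_zero.1 h3).resolve_right (ε_ne_zero P)
      · exact Finsupp.notMem_support_iff.1 hk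
    simp [hl0]
  refine ⟨?_, fun y hy hne => Finset.sum_eq_zero fun w _ => if_neg fun e => hne ?_⟩
  · unfold aptFun
    rw [Finset.sum_eq_single (1, fun _ => true) (fun w _ hw => if_neg fun e => hw (huniq x hxo w e))
      (fun h => absurd (Finset.mem_univ _) h), if_pos hw0]
    exact sgn_ne_zero _
  · rw [← e, huniq y hy w e, hw0]

omit [Fintype (Chamber P m)]

/-- The map exchanging the two halves. -/
noncomputable def swapMap : V →ₗ[K] V where
  toFun v := v - F.proj v + ∑ i, (P.B v (F.f i) • F.f i + (P.B v (F.e i) / P.ε * P.ε) • F.e i)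
  map_add' u v := by
    simp only [proj, map_add, LinearMap.add_apply, add_div, add_mul, add_smul,
      Finset.sum_add_distrib]
    abel
  map_smul' c v := by
    simp only [proj, map_smul, LinearMap.smul_apply, smul_eq_mul, RingHom.id_apply, smul_add,
      smul_sub, Finset.smul_sum, smul_smul, mul_div_assoc, mul_assoc]

theorem swapMap_B (u v : V) : P.B (F.swapMap u) (F.swapMap v) = P.B u v := by
  have key : ∀ (r r' : V), (∀ i, P.B r (F.e i) = 0 ∧ P.B r (F.f i) = 0) →
      (∀ i, P.B (F.e i) r' = 0 ∧ P.B (F.f i) r' = 0) → ∀ a b c d : Fin m → K,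
      P.B (r + ∑ i, (a i • F.e i + b i • F.f i)) (r' + ∑ i, (c i • F.e i + d i • F.f i)) =
        P.B r r' + ∑ i, (P.σ (d i) * a i + P.σ (c i) * (b i * P.ε)) := by
    intro r r' hr hr' a b c d
    simp only [map_add, LinearMap.add_apply, map_sum, LinearMap.sum_apply, map_smul,
      LinearMap.smul_apply, LinearMap.map_smulₛₗ, (hr _).1, (hr _).2, (hr' _).1, (hr' _).2,
      smul_eq_mul, mul_zero, Finset.sum_const_zero, add_zero, zero_add, F.ee, F.ff, F.ef, F.fe,
      mul_ite, mul_one, Finset.sum_ite_eq', Finset.mem_univ, if_true]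
    congr 1
    exact Finset.sum_congr rfl fun i _ => by ring
  have hv' : ∀ i, P.B (F.e i) (v - F.proj v) = 0 ∧ P.B (F.f i) (v - F.proj v) = 0 := fun i =>
    ⟨P.refl _ _ (F.rest_perp v i).1, P.refl _ _ (F.rest_perp v i).2⟩
  have h := key _ _ (F.rest_perp u) hv' (fun i => P.B u (F.f i)) (fun i => P.B u (F.e i) / P.ε)
    (fun i => P.B v (F.f i)) (fun i => P.B v (F.e i) / P.ε)
  have h' := key _ _ (F.rest_perp u) hv' (fun i => P.B u (F.e i) / P.ε * P.ε)
    (fun i => P.B u (F.f i)) (fun i => P.B v (F.e i) / P.ε * P.ε) (fun i => P.B v (F.f i))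
  rw [show ∑ i, (P.B u (F.f i) • F.e i + (P.B u (F.e i) / P.ε) • F.f i) = F.proj u from rfl,
    show ∑ i, (P.B v (F.f i) • F.e i + (P.B v (F.e i) / P.ε) • F.f i) = F.proj v from rfl,
    sub_add_cancel, sub_add_cancel] at h
  have hs : ∀ w : V, F.swapMap w = w - F.proj w +
      ∑ i, ((P.B w (F.e i) / P.ε * P.ε) • F.e i + P.B w (F.f i) • F.f i) := fun w => by
    show w - F.proj w +
      ∑ i, (P.B w (F.f i) • F.f i + (P.B w (F.e i) / P.ε * P.ε) • F.e i) = _
    congr 1
    exact Finset.sum_congr rfl fun i _ => add_comm _ _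
  rw [hs, hs, h', h]
  congr 1
  refine Finset.sum_congr rfl fun i _ => ?_
  rw [map_mul]
  linear_combination (P.σ (P.B v (F.e i) / P.ε) * P.B u (F.f i)) * P.εε

theorem swapMap_q0 (v : V) : P.q0 (F.swapMap v) = P.q0 v := by
  have hv := F.rest_perp v
  conv_rhs => rw [show v = v - F.proj v + F.proj v by abel]
  show P.q0 (v - F.proj v + _) = _
  rw [P.q0_add, P.q0_add _ (F.proj v), Frame.proj, q0_sum, q0_sum]
  · have e1 : P.B (v - F.proj v) (∑ i, (P.B v (F.f i) • F.f i + (P.B v (F.e i) / P.ε * P.ε) • F.e i)) = 0 := by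
      simp only [map_sum, map_add, LinearMap.map_smulₛₗ, (hv _).1, (hv _).2, smul_zero, add_zero,
        Finset.sum_const_zero]
    have e2 : P.B (v - F.proj v) (∑ i, (P.B v (F.f i) • F.e i + (P.B v (F.e i) / P.ε) • F.f i)) = 0 := by
      simp only [map_sum, map_add, LinearMap.map_smulₛₗ, (hv _).1, (hv _).2, smul_zero, add_zero,
        Finset.sum_const_zero]
    rw [Frame.proj] at e1 e2
    rw [e1, e2]
    congr 2
    refine Finset.sum_congr rfl fun i _ => ?_
    rw [P.q0_add, P.q0_add, P.q0_smul _ _ (F.qe i), P.q0_smul _ _ (F.qf i),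
      P.q0_smul _ _ (F.qe i), P.q0_smul _ _ (F.qf i)]
    congr 1
    simp only [map_smul, LinearMap.smul_apply, LinearMap.map_smulₛₗ, F.ef, F.fe, if_true, smul_eq_mul,
      mul_one]
    congr 1
    rw [map_mul]
    linear_combination (P.σ (P.B v (F.e i) / P.ε) * P.B v (F.f i)) * P.εε
  · intro i _ j _ hij
    simp [map_add, LinearMap.map_smulₛₗ, F.ee, F.ff, F.ef, F.fe, hij, hij.symm]
  · intro i _ j _ hij
    simp [map_add, LinearMap.map_smulₛₗ, F.ee, F.ff, F.ef, F.fe, hij, hij.symm]

/-- The isometry exchanging the two halves. -/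
noncomputable def swapEquiv : V ≃ₗ[K] V :=
  LinearEquiv.ofBijective F.swapMap
    (have hi : Function.Injective F.swapMap := (injective_iff_map_eq_zero F.swapMap).2 fun v hv =>
      P.nondeg v fun w => by rw [← F.swapMap_B v w, hv]; simp
    ⟨hi, LinearMap.surjective_of_injective hi⟩)

theorem swapEquiv_apply (v : V) : F.swapEquiv v = F.swapMap v := rfl

theorem swapEquiv_iso : IsIso P F.swapEquiv :=
  ⟨fun u v => F.swapMap_B u v, fun v => F.swapMap_q0 v⟩

theorem swapEquiv_e (i : Fin m) : F.swapEquiv (F.e i) = F.f i := by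
  show F.e i - F.proj (F.e i) + _ = _
  simp [proj, F.ef, F.ee, ite_smul, Finset.sum_add_distrib]

end Frame

end Cfsg.Agent.PolarSteinberg52
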