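import Cfsg.Agent.PolarSteinberg52.Abstract
import Cfsg.Agent.PolarSteinberg52.Frame
import Mathlib.FieldTheory.Finite.Basic
import Mathlib.GroupTheory.PGroup

/-!
The Steinberg character of a group of isometries of a polar space.
-/

set_option autoImplicit false

namespace Cfsg.Agent.PolarSteinberg52

universe u v w x

open Module

variable {K : Type u} {V : Type v} {T : Type w} [Field K] [AddCommGroup V] [Module K V]
  [AddCommGroup T] [FiniteDimensional K V] {P : PForm K V T} {m : ℕ}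

theorem map_perp {g : V ≃ₗ[K] V} (hg : IsIso P g) (W : Submodule K V) :
    (P.perp W).map (g : V →ₗ[K] V) = P.perp (W.map (g : V →ₗ[K] V)) := by
  ext v
  constructor
  · rintro ⟨v, hv, rfl⟩ _ ⟨w, hw, rfl⟩
    exact (hg.1 v w).trans (hv w hw)
  · intro hv
    refine ⟨g.symm v, fun w hw => ?_, g.apply_symm_apply v⟩
    rw [← hg.1, g.apply_symm_apply]
    exact hv (g w) ⟨w, hw, rfl⟩

theorem map_ts {g : V ≃ₗ[K] V} (hg : IsIso P g) {W : Submodule K V} (h : P.TS W) :
    P.TS (W.map (g : V →ₗ[K] V)) := by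
  refine ⟨?_, ?_⟩
  · rintro _ ⟨v, hv, rfl⟩
    exact (hg.2 v).trans (h.q0_eq v hv)
  · rw [← map_perp hg]; exact Submodule.map_mono h.le_perp

/-- The image of a flag. -/
def mapCh (g : V ≃ₗ[K] V) (hg : IsIso P g) (x : Chamber P m) : Chamber P m where
  sub i := (x.sub i).map (g : V →ₗ[K] V)
  rank i := by rw [LinearEquiv.finrank_map_eq, x.rank]
  mono := fun i j hij => Submodule.map_mono (x.mono hij)
  ts i := map_ts hg (x.ts i)

variable {G : Type x} [Group G]

/-- The action on flags. -/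
def chAction (ι : G →* (V ≃ₗ[K] V)) (hι : ∀ g, IsIso P (ι g)) : MulAction G (Chamber P m) where
  smul g := mapCh (ι g) (hι g)
  one_smul x := Chamber.ext' fun i _ _ => by
    show (x.sub i).map ((ι 1 : V ≃ₗ[K] V) : V →ₗ[K] V) = _
    rw [map_one]; exact Submodule.map_id _
  mul_smul g h x := Chamber.ext' fun i _ _ => by
    show (x.sub i).map ((ι (g * h) : V ≃ₗ[K] V) : V →ₗ[K] V) =
      ((x.sub i).map ((ι h : V ≃ₗ[K] V) : V →ₗ[K] V)).map ((ι g : V ≃ₗ[K] V) : V →ₗ[K] V)
    rw [← Submodule.map_comp, map_mul]; rfl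

theorem eigen_one [Finite K] {p : ℕ} [Fact p.Prime] [CharP K p] {g : V ≃ₗ[K] V} {v : V}
    (hv : v ≠ 0) {n : ℕ} (hg : g ^ p ^ n = 1) {c : K} (hc : g v = c • v) : g v = v := by
  have hpow : ∀ k, (g ^ k) v = c ^ k • v := by
    intro k
    induction k with
    | zero => simp
    | succ k ih =>
      rw [pow_succ, LinearEquiv.mul_apply, hc, map_smul, ih, smul_smul, pow_succ']
  have h1 : c ^ p ^ n = 1 := by
    have h := hpow (p ^ n)
    rw [hg, LinearEquiv.coe_one, id_eq] at h
    exact smul_left_injective K hv (show c ^ p ^ n • v = (1 : K) • v by rw [one_smul]; exact h.symm)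
  have h2 : c = 1 := by
    have h3 : (c - 1) ^ p ^ n = 0 := by rw [sub_pow_char_pow, h1, one_pow, sub_self]
    exact sub_eq_zero.1 (eq_zero_of_pow_eq_zero h3)
  rw [hc, h2, one_smul]

/-- The Witt index from an anisotropic complement. -/
theorem witt_of_frame (F : Frame P m)
    (hR : ∀ v, P.q0 v = 0 → (∀ i, P.B v (F.e i) = 0 ∧ P.B v (F.f i) = 0) → v = 0) : Witt P m := by
  set M := (F.chamber (1, fun _ => false)).sub m with hM
  have hvec : F.vec (1, fun _ => false) = F.e := funext fun j => by simp [Frame.vec]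
  have hMe : ∀ i, F.e i ∈ M := fun i => by
    show F.e i ∈ initSpan K (F.vec (1, fun _ => false)) m
    rw [hvec]; exact mem_initSpan _ i.2
  have hMts : P.TS M := (F.chamber _).ts m
  have hMd : finrank K M = m := by rw [hM, Chamber.rank, min_self]
  refine ⟨fun W hW => ?_, M, hMts, hMd⟩
  by_contra hlt
  obtain ⟨v, hv, hvp, hvM⟩ := PForm.TS.exists_extend P hMts hW (by omega)
  set z := ∑ i, P.B v (F.f i) • F.e i with hz
  have hzM : z ∈ M := sum_mem fun i _ => M.smul_mem _ (hMe i)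
  have h0 : v - z = 0 := by
    refine hR _ ?_ fun i => ⟨?_, ?_⟩
    · rw [sub_eq_add_neg, P.q0_add, hW.q0_eq v hv, hMts.q0_eq _ (neg_mem hzM),
        hvp _ (neg_mem hzM), map_zero, add_zero, add_zero]
    · rw [map_sub, LinearMap.sub_apply, hvp _ (hMe i), hMts.le_perp hzM _ (hMe i), sub_zero]
    · rw [hz, map_sub, LinearMap.sub_apply, map_sum, LinearMap.sum_apply]
      simp [F.ef]
  exact hvM (sub_eq_zero.1 h0 ▸ hzM)

variable [Finite K] [Finite V] {p : ℕ} [Fact p.Prime] [CharP K p]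

/-- A `p`-group of isometries fixes a maximal flag. -/
theorem exists_fixed_chamber (hw : Witt P m) (ι : G →* (V ≃ₗ[K] V)) (hι : ∀ g, IsIso P (ι g))
    (U : Subgroup G) (hU : IsPGroup p U)
    (hlast : p = 2 → Nat.card K ^ (finrank K V - 2 * m) * Nat.card {t : K // P.τ t = 0} = 1 →
      ∀ u ∈ U, ∀ M, P.TS M → finrank K M = m → ∀ W ≤ M, finrank K W + 1 = m →
        W.map (ι u : V →ₗ[K] V) = W → M.map (ι u : V →ₗ[K] V) = M) :
    ∃ a : Chamber P m, ∀ u ∈ U, mapCh (ι u) (hι u) a = a := by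
  classical
  obtain ⟨n₀, _hp, hcard⟩ : ∃ n₀, p.Prime ∧ Nat.card K = p ^ n₀ := by
    letI := Fintype.ofFinite K
    obtain ⟨n, hp, hn⟩ := FiniteField.card K p
    exact ⟨n, hp, by rw [Nat.card_eq_fintype_card, hn]⟩
  haveI : Finite (Submodule K V) := Finite.of_injective _ SetLike.coe_injective
  obtain ⟨Mx, hMx, hMxm⟩ := hw.exists_max
  have hN : 2 * m ≤ finrank K V := by
    have h1 := Submodule.finrank_mono hMx.le_perp
    have h2 := P.finrank_perp Mx
    omega
  suffices ∀ k ≤ m, ∃ a : Chamber P m, ∀ u ∈ U, ∀ j ≤ k, (a.sub j).map (ι u : V →ₗ[K] V) = a.sub j by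
    obtain ⟨a, ha⟩ := this m le_rfl
    exact ⟨a, fun u hu => Chamber.ext' fun i _ hi => ha u hu i hi⟩
  intro k
  induction k with
  | zero =>
    intro _
    obtain ⟨a, -⟩ := hw.exists_chamber m 0 (Nat.zero_add m) (fun _ => ⊥)
      (fun i hi => by rw [Nat.le_zero.1 hi]; exact finrank_bot K V) (fun i hi => le_rfl)
      (fun i _ => P.ts_bot)
    exact ⟨a, fun u _ j hj => by rw [Nat.le_zero.1 hj, a.sub_zero, Submodule.map_bot]⟩
  | succ k ih =>
    intro hk
    obtain ⟨a, ha⟩ := ih (by omega)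
    set W := a.sub k
    have hW : P.TS W := a.ts k
    have hdW : finrank K W = k := by rw [a.rank]; omega
    obtain ⟨v, hvM, hvW, hvnW⟩ := PForm.TS.exists_extend P hW hMx (by omega)
    have hmap : ∀ u : U, ∀ L : Pts P W, W ≤ L.1.map (ι u : V →ₗ[K] V) ∧
        P.TS (L.1.map (ι u : V →ₗ[K] V)) ∧
        finrank K ↥(L.1.map (ι u : V →ₗ[K] V)) = finrank K W + 1 := fun u L =>
      ⟨(ha u u.2 k le_rfl).ge.trans (Submodule.map_mono L.2.1), map_ts (hι u) L.2.2.1,
        by rw [LinearEquiv.finrank_map_eq, L.2.2.2]⟩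
    letI : MulAction U (Pts P W) :=
      { smul := fun u L => ⟨L.1.map (ι u : V →ₗ[K] V), hmap u L⟩
        one_smul := fun L => Subtype.ext (by
          show L.1.map (ι (1 : U) : V →ₗ[K] V) = _
          rw [OneMemClass.coe_one, map_one]; exact Submodule.map_id _)
        mul_smul := fun g h L => Subtype.ext (by
          show L.1.map (ι ((g : G) * h) : V →ₗ[K] V) =
            (L.1.map (ι h : V →ₗ[K] V)).map (ι g : V →ₗ[K] V)
          rw [← Submodule.map_comp, map_mul]; rfl) }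
    obtain ⟨L, hL⟩ : ∃ L : Pts P W, ∀ u : U, u • L = L := by
      by_cases hdvd : p ∣ Nat.card (Pts P W)
      swap
      · obtain ⟨L, hL⟩ := hU.nonempty_fixed_point_of_prime_not_dvd_card (Pts P W) hdvd
        exact ⟨L, hL⟩
      -- then there is exactly one far point and `p = 2`
      obtain ⟨s, hs, hs1⟩ := card_pts_modEq hW hvnW (hMx.q0_eq v hvM) hvW
      have hfar := card_farPts hW hvnW (hMx.q0_eq v hvM) hvW
      rw [hdW] at hfar
      set c := Nat.card {t : K // P.τ t = 0}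
      have hn : Nat.card (FarPts P W v) = Nat.card K ^ (finrank K V - 2 * k - 2) * c := by
        refine Nat.eq_of_mul_eq_mul_right (pow_pos (Nat.card_pos (α := K)) k) ?_
        rw [hfar, mul_right_comm, ← pow_add]
        congr 2
        omega
      have hn₀ : n₀ ≠ 0 := fun h => by
        have := Finite.one_lt_card (α := K)
        rw [hcard, h] at this; simp at this
      have hs' : s ≡ 1 [MOD p] := hs1.of_dvd (hcard ▸ dvd_pow_self p hn₀)
      obtain ⟨e, he, hec⟩ : ∃ e, (c = p ^ e) ∧ True := by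
        have hdvdc : c ∣ Nat.card K := AddSubgroup.card_addSubgroup_dvd_card P.τ.ker
        rw [hcard] at hdvdc
        obtain ⟨e, -, he⟩ := (Nat.dvd_prime_pow _hp).1 hdvdc
        exact ⟨e, he, trivial⟩
      have hone : Nat.card K ^ (finrank K V - 2 * k - 2) * c = 1 := by
        rw [hcard, he, ← pow_mul, ← pow_add] at hn ⊢
        by_contra hne
        have hpn : p ∣ Nat.card (FarPts P W v) := hn ▸ dvd_pow_self p (fun h => hne (by rw [h, pow_zero]))
        have hps : p ∣ s := (Nat.dvd_add_right hpn).1 (hs ▸ hdvd)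
        have : 0 ≡ 1 [MOD p] := (Nat.modEq_zero_iff_dvd.2 hps).symm.trans hs'
        exact (Nat.Prime.one_lt _hp).ne' (Nat.dvd_one.1 (Nat.modEq_zero_iff_dvd.1 this.symm))
      have hp2 : p = 2 := by
        rw [hs, hn, hone] at hdvd
        have h2 : 1 + s ≡ 2 [MOD p] := Nat.ModEq.add_left 1 hs'
        exact (Nat.prime_dvd_prime_iff_eq _hp Nat.prime_two).1
          (Nat.modEq_zero_iff_dvd.1 (h2.symm.trans (Nat.modEq_zero_iff_dvd.2 hdvd)))
      have hk1 : k + 1 = m := by
        have h1 := Nat.eq_one_of_mul_eq_one_right hone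
        rcases Nat.eq_zero_or_pos (finrank K V - 2 * k - 2) with h | h
        · omega
        · exact absurd h1 (Nat.one_lt_pow h.ne' (Finite.one_lt_card (α := K))).ne'
      refine ⟨⟨W ⊔ Submodule.span K {v}, span_mem_pts hW ⟨v, hvW, hMx.q0_eq v hvM⟩ hvnW⟩, fun u =>
        Subtype.ext ?_⟩
      refine hlast hp2 ?_ u u.2 _ (PForm.TS.sup_span P hW hvW (hMx.q0_eq v hvM))
        (by rw [finrank_sup_span hvnW, hdW]; omega) W le_sup_left (by omega) (ha u u.2 k le_rfl)
      rw [← hone, ← hk1]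
      congr 2
    obtain ⟨a', ha'⟩ := hw.exists_chamber (m - (k + 1)) (k + 1) (by omega)
      (fun j => if j ≤ k then a.sub j else L.1)
      (fun j hj => by
        rcases le_or_gt j k with h | h
        · rw [if_pos h, a.rank]; omega
        · rw [if_neg (Nat.not_le.2 h), L.2.2.2, hdW]; omega)
      (fun j hj => by
        split_ifs with h h' h'
        · exact a.mono (by omega)
        · exact (a.mono (by omega : j ≤ k)).trans L.2.1
        · omega
        · exact le_rfl)
      (fun j hj => by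
        split_ifs with h
        · exact a.ts j
        · exact L.2.2.1)
    refine ⟨a', fun u hu j hj => ?_⟩
    rw [ha' j (by omega)]
    split_ifs with h
    · exact ha u hu j h
    · exact congrArg Subtype.val (hL ⟨u, hu⟩)

/-- **The Steinberg character of a group of isometries.** -/
theorem exists_steinberg [Finite G] (ι : G →* (V ≃ₗ[K] V)) (hinj : Function.Injective ι)
    (hι : ∀ g, IsIso P (ι g))
    (hnorm : ∀ γ : V ≃ₗ[K] V, IsIso P γ → ∀ g : G, ∃ g' : G, ι g' = γ * ι g * γ⁻¹)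
    (F₀ : Frame P m)
    (hR : ∀ v, P.q0 v = 0 → (∀ i, P.B v (F₀.e i) = 0 ∧ P.B v (F₀.f i) = 0) → v = 0)
    (hfree : ∀ (F : Frame P m) (g : G) (n : ℕ), g ^ p ^ n = 1 →
      (∀ i, ι g (F.e i) = F.e i ∧ ι g (F.f i) = F.f i) → g = 1)
    (hlast : p = 2 → Nat.card K ^ (finrank K V - 2 * m) * Nat.card {t : K // P.τ t = 0} = 1 →
      ∀ u : G, ∀ M, P.TS M → finrank K M = m → ∀ W ≤ M, finrank K W + 1 = m →
        W.map (ι u : V →ₗ[K] V) = W → M.map (ι u : V →ₗ[K] V) = M)
    (hord : p ^ (Nat.card G).factorization p = ∏ j ∈ Finset.range m,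
      (Nat.card K ^ (finrank K V - 2 * j - 2) * Nat.card {t : K // P.τ t = 0}))
    (Z : Subgroup G) [Z.Normal] (hZ : ∀ z ∈ Z, ∃ c : K, ∀ v, ι z v = c • v) :
    ∃ χ : G ⧸ Z → ℂ, Cfsg.IsIrrCharacter (G ⧸ Z) χ ∧
      ∀ Q : Sylow p (G ⧸ Z), χ 1 = Nat.card Q ∧ ∀ y : G ⧸ Z, y ∈ Q → y ≠ 1 → χ y = 0 := by
  classical
  letI : Fintype (Chamber P m) := Fintype.ofFinite _
  letI := chAction (m := m) ι hι
  have hsub : ∀ (g : G) (x : Chamber P m) (i : ℕ), (g • x).sub i = (x.sub i).map (ι g : V →ₗ[K] V) :=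
    fun g x i => rfl
  have hw : Witt P m := witt_of_frame F₀ hR
  obtain ⟨U⟩ : Nonempty (Sylow p G) := inferInstance
  obtain ⟨a, ha⟩ := exists_fixed_chamber hw ι hι (U : Subgroup G) U.2 fun h h' u _ => hlast h h' u
  have hcardO : Nat.card {x : Chamber P m // Opp 0 a x} = Nat.card U := by
    rw [card_opp hw m 0 (Nat.zero_add m) a, U.card_eq_multiplicity, hord]
    simp only [Nat.zero_add]
  have hmapI : ∀ (g : G) (A B : Submodule K V),
      (A ⊓ B).map (ι g : V →ₗ[K] V) = A.map (ι g : V →ₗ[K] V) ⊓ B.map (ι g : V →ₗ[K] V) := fun g A B =>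
    Submodule.map_inf _ (ι g).injective
  have hOU : ∀ u ∈ U, ∀ x, Opp 0 a x → Opp 0 a (u • x) := by
    intro u hu x hx
    refine ⟨fun j hj => by rw [Nat.le_zero.1 hj, Chamber.sub_zero, Chamber.sub_zero], fun i h1 h2 => ?_⟩
    conv_lhs => rw [← ha u hu]
    show (x.sub i).map (ι u : V →ₗ[K] V) ⊓ P.perp ((a.sub i).map (ι u : V →ₗ[K] V)) = _
    rw [← map_perp (hι u), ← hmapI, hx.2 i h1 h2, a.sub_zero, Submodule.map_bot]
  have hWinv : ∀ g : G, ∀ f ∈ (panelSpace : Submodule ℂ (Chamber P m → ℂ)),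
      translateFun G (Chamber P m) g f ∈ (panelSpace : Submodule ℂ (Chamber P m → ℂ)) := by
    intro g f hf
    rw [mem_panelSpace] at hf ⊢
    intro i h1 h2 x
    rw [← hf i h1 h2 (g⁻¹ • x), Finset.sum_filter, Finset.sum_filter]
    refine Fintype.sum_equiv (MulAction.toPerm g⁻¹) _ _ fun y => ?_
    rw [MulAction.toPerm_apply, translateFun_apply]
    refine if_congr ⟨fun h j hj hji => ?_, fun h j hj hji => ?_⟩ rfl rfl
    · rw [hsub, hsub, h j hj hji]
    · have := h j hj hji
      rw [hsub, hsub] at this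
      exact Submodule.map_injective_of_injective (ι g⁻¹).injective this
  have hZp : ¬ p ∣ Nat.card Z := by
    intro h
    obtain ⟨z, hz⟩ := exists_prime_orderOf_dvd_card' p h
    obtain ⟨c, hc⟩ := hZ z z.2
    have hzp : (z : G) ^ p ^ 1 = 1 := by
      rw [pow_one, ← hz, ← Subgroup.coe_pow, pow_orderOf_eq_one, OneMemClass.coe_one]
    have h1 : (z : G) = 1 := hinj (by
      ext v
      rw [map_one, LinearEquiv.coe_one, id_eq]
      rcases eq_or_ne v 0 with rfl | hv
      · simp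
      · exact eigen_one hv (by rw [← map_pow, hzp, map_one]) (hc v))
    rw [show z = 1 from Subtype.ext h1, orderOf_one] at hz
    exact (Fact.out : p.Prime).one_lt.ne hz
  have hZfix : ∀ z ∈ Z, ∀ x : Chamber P m, z • x = x := by
    intro z hz x
    obtain ⟨c, hc⟩ := hZ z hz
    refine Chamber.ext' fun i _ _ => Submodule.eq_of_le_of_finrank_eq ?_ ?_
    · rintro _ ⟨v, hv, rfl⟩
      rw [LinearEquiv.coe_coe, hc v]
      exact Submodule.smul_mem _ c hv
    · rw [Chamber.rank, Chamber.rank]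
  have hfreeO : ∀ u ∈ U, ∀ x, Opp 0 a x → u • x = x → u = 1 := by
    intro u hu x hx hux
    obtain ⟨F, hFa, hFx⟩ := exists_frame hx
    obtain ⟨n, hn⟩ := U.2 ⟨u, hu⟩
    have hn' : u ^ p ^ n = 1 := congrArg Subtype.val hn
    have hfa : ∀ i, (a.sub i).map (ι u : V →ₗ[K] V) = a.sub i := fun i =>
      congrArg (fun y : Chamber P m => y.sub i) (ha u hu)
    have hfx : ∀ i, (x.sub i).map (ι u : V →ₗ[K] V) = x.sub i := fun i => by
      rw [← hsub, hux]
    -- each member of the frame spans a fixed line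
    have line : ∀ (A X : Chamber P m) (c d : Fin m → V), (∀ i ≤ m, A.sub i = initSpan K c i) →
        (∀ i ≤ m, X.sub i = initSpan K d i) →
        (∀ i, (A.sub i).map (ι u : V →ₗ[K] V) = A.sub i) →
        (∀ i, (X.sub i).map (ι u : V →ₗ[K] V) = X.sub i) →
        (∀ i, A.sub i ⊓ P.perp (X.sub i) = ⊥) → (∀ i j : Fin m, i ≠ j → P.B (c i) (d j) = 0) →
        (∀ i, c i ≠ 0) → ∀ i, ι u (c i) = c i := by
      intro A X c d hA hX hfA hfX hAX hcd hc0 i
      have hmem : c i ∈ A.sub (i + 1) ⊓ P.perp (X.sub i) := by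
        refine ⟨(hA (i + 1) i.2).ge (mem_initSpan c (Nat.lt_succ_self _)), ?_⟩
        have hle : X.sub i ≤ P.perp (Submodule.span K {c i}) := by
          rw [hX i i.2.le, initSpan, Submodule.span_le]
          rintro _ ⟨j, hj, rfl⟩
          exact P.mem_perp_span.2 (P.refl _ _ (hcd i j fun e => by subst e; exact (lt_irrefl _ (show (i : ℕ) < (i : ℕ) from hj))))
        exact fun y hy => P.refl _ _ (P.mem_perp_span.1 (hle hy))
      have hrk : finrank K ↥(A.sub (i + 1) ⊓ P.perp (X.sub i)) ≤ 1 := by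
        have h1 : Disjoint (A.sub i) (A.sub (i + 1) ⊓ P.perp (X.sub i)) := by
          rw [disjoint_iff, eq_bot_iff, ← hAX i]
          exact le_inf inf_le_left (inf_le_right.trans inf_le_right)
        have h2 := Submodule.finrank_sup_add_finrank_inf_eq (A.sub i)
          (A.sub (i + 1) ⊓ P.perp (X.sub i))
        rw [h1.eq_bot, finrank_bot] at h2
        have h3 := Submodule.finrank_mono (sup_le (A.mono (Nat.le_succ i)) inf_le_left :
          A.sub i ⊔ A.sub (i + 1) ⊓ P.perp (X.sub i) ≤ A.sub (i + 1))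
        rw [A.rank] at h3 h2
        omega
      have himg : ι u (c i) ∈ A.sub (i + 1) ⊓ P.perp (X.sub i) := by
        have h1 : ι u (c i) ∈ (A.sub (i + 1) ⊓ P.perp (X.sub i)).map (ι u : V →ₗ[K] V) :=
          ⟨_, hmem, rfl⟩
        rwa [hmapI, hfA, map_perp (hι u), hfX] at h1
      have hspan : Submodule.span K {c i} = A.sub (i + 1) ⊓ P.perp (X.sub i) :=
        Submodule.eq_of_le_of_finrank_le ((Submodule.span_singleton_le_iff_mem _ _).2 hmem)
          (by rw [finrank_span_singleton (hc0 i)]; exact hrk)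
      rw [← hspan] at himg
      obtain ⟨r, hr⟩ := Submodule.mem_span_singleton.1 himg
      exact eigen_one (hc0 i) (by rw [← map_pow, hn', map_one]) hr.symm
    have hxa : ∀ i, x.sub i ⊓ P.perp (a.sub i) = ⊥ := fun i => by
      rcases Nat.eq_zero_or_pos i with rfl | h1
      · rw [x.sub_zero, bot_inf_eq]
      rcases le_or_gt i m with h2 | h2
      · rw [hx.2 i h1 h2, a.sub_zero]
      · rcases Nat.eq_zero_or_pos m with h3 | h3
        · subst h3; rw [x.sub_of_le h2.le, x.sub_zero, bot_inf_eq]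
        · rw [x.sub_of_le h2.le, a.sub_of_le h2.le, hx.2 m h3 le_rfl, a.sub_zero]
    have hax : ∀ i, a.sub i ⊓ P.perp (x.sub i) = ⊥ := fun i =>
      inf_perp_symm (by rw [a.rank, x.rank]) (hxa i)
    refine hfree F u n hn' fun i => ⟨?_, ?_⟩
    · refine line a x F.e F.f hFa hFx hfa hfx hax (fun i j hij => by rw [F.ef, if_neg hij])
        (fun i h => ?_) i
      simpa [h] using F.ef i i
    · refine line x a F.f F.e hFx hFa hfx hfa hxa (fun i j hij => by rw [F.fe, if_neg hij])
        (fun i h => ?_) i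
      simpa [h] using F.ef i i
  refine exists_char_quotient Z hZfix hZp panelSpace hWinv U a ha {x | Opp 0 a x} hOU hfreeO hcardO
    (fun f hf hz => ?_) (fun o ho => ?_) ?_
  · funext x
    exact eq_zero_of_opp hw hf m 0 (Nat.zero_add m) a hz x
      fun j hj => by rw [Nat.le_zero.1 hj, Chamber.sub_zero, Chamber.sub_zero]
  · obtain ⟨F, hFa, hFx⟩ := exists_frame ho
    exact ⟨F.aptFun, F.aptFun_mem, (F.aptFun_opp hFa hFx).1,
      fun y hy hne => (F.aptFun_opp hFa hFx).2 y hy hne⟩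
  · obtain ⟨o, ho⟩ : ∃ o, Opp 0 a o := by
      have hpos : 0 < Nat.card {x : Chamber P m // Opp 0 a x} := hcardO ▸ Nat.card_pos
      obtain ⟨⟨o, ho⟩⟩ := (Nat.card_pos_iff.1 hpos).1
      exact ⟨o, ho⟩
    obtain ⟨F, hFa, hFo⟩ := exists_frame ho
    set γ := F.swapEquiv
    have hγ : IsIso P γ := F.swapEquiv_iso
    let U₁ : Subgroup G := ((U : Subgroup G).map ((MulAut.conj γ).toMonoidHom.comp ι)).comap ι
    have hU₁ : Nat.card U₁ = Nat.card U := by
      refine (Nat.card_congr (Equiv.ofBijective (fun u : U => (⟨(hnorm γ hγ u).choose,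
        ⟨u, u.2, (hnorm γ hγ u).choose_spec.symm⟩⟩ : U₁)) ⟨fun u u' h => ?_, ?_⟩)).symm
      · have h1 := (hnorm γ hγ u).choose_spec
        rw [show (hnorm γ hγ u).choose = (hnorm γ hγ u').choose from congrArg Subtype.val h,
          (hnorm γ hγ u').choose_spec] at h1
        exact Subtype.ext (hinj (mul_left_cancel (mul_right_cancel h1))).symm
      · rintro ⟨g, u, hu, e⟩
        refine ⟨⟨u, hu⟩, Subtype.ext (hinj ?_)⟩
        exact (hnorm γ hγ u).choose_spec.trans e
    refine ⟨o, ho, Sylow.ofCard U₁ (by rw [hU₁, U.card_eq_multiplicity]), ?_⟩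
    intro g hg
    obtain ⟨u, hu, e⟩ : g ∈ U₁ := hg
    refine Chamber.ext' fun i _ hi => ?_
    have hoi : o.sub i = (a.sub i).map (γ : V →ₗ[K] V) := by
      rw [hFo i hi, hFa i hi, initSpan, initSpan, Submodule.map_span, ← Set.image_comp]
      congr 1
      exact Set.image_congr fun j _ => (F.swapEquiv_e j).symm
    rw [hsub, hoi, ← e]
    show ((a.sub i).map (γ : V →ₗ[K] V)).map
      ((γ * ι u * γ⁻¹ : V ≃ₗ[K] V) : V →ₗ[K] V) = _
    rw [← Submodule.map_comp]
    have he : ((γ * ι u * γ⁻¹ : V ≃ₗ[K] V) : V →ₗ[K] V).comp (γ : V →ₗ[K] V) =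
        (γ : V →ₗ[K] V).comp (ι u : V →ₗ[K] V) := LinearMap.ext fun v => by
      show γ (ι u (γ⁻¹ (γ v))) = γ (ι u v)
      rw [show γ⁻¹ (γ v) = v from γ.symm_apply_apply v]
    rw [he, Submodule.map_comp]
    exact congrArg _ (congrArg (fun y : Chamber P m => y.sub i) (ha u hu))

end Cfsg.Agent.PolarSteinberg52
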