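import Cfsg.Agent.PolarSteinberg52.Main
import Mathlib.LinearAlgebra.Matrix.ToLin
import Mathlib.LinearAlgebra.GeneralLinearGroup.Basic

/-!
Tools for the classical instances of the polar Steinberg theorem.
-/

set_option autoImplicit false

namespace Cfsg.Agent.PolarSteinberg52

universe u v w

open Module

/-- A matrix representation as a homomorphism to linear automorphisms. -/
noncomputable def matHom {G : Type w} [Group G] {K : Type u} [Field K] {ι : Type v} [Fintype ι]
    [DecidableEq ι] (A : G →* Matrix ι ι K) : G →* ((ι → K) ≃ₗ[K] (ι → K)) :=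
  (LinearMap.GeneralLinearGroup.generalLinearEquiv K (ι → K)).toMonoidHom.comp
    (MonoidHom.toHomUnits ((Matrix.toLinAlgEquiv' (R := K) (n := ι)).toAlgHom.toRingHom.toMonoidHom.comp A))

theorem matHom_apply {G : Type w} [Group G] {K : Type u} [Field K] {ι : Type v} [Fintype ι]
    [DecidableEq ι] (A : G →* Matrix ι ι K) (g : G) (x : ι → K) :
    matHom A g x = Matrix.mulVec (A g) x := rfl

theorem matHom_injective {G : Type w} [Group G] {K : Type u} [Field K] {ι : Type v} [Fintype ι]
    [DecidableEq ι] (A : G →* Matrix ι ι K) (hA : Function.Injective A) :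
    Function.Injective (matHom A) := fun g h e => hA (Matrix.ext_of_mulVec_single fun i => by
  rw [← matHom_apply A g, ← matHom_apply A h, e])

variable {K : Type u} {V : Type v} {T : Type w} [Field K] [AddCommGroup V] [Module K V]
  [AddCommGroup T] [FiniteDimensional K V] {P : PForm K V T} {m : ℕ}

namespace Frame

variable (F : Frame P m)

/-- In twice the Witt index, a frame spans. -/
theorem proj_eq_self (hN : finrank K V = 2 * m) (v : V) : F.proj v = v := by
  classical
  let f : V →ₗ[K] (Fin m → K) × (Fin m → K) :=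
    { toFun := fun v => (fun i => P.B v (F.e i), fun i => P.B v (F.f i))
      map_add' := fun a b => by ext <;> simp
      map_smul' := fun c a => by ext <;> simp }
  have hsurj : Function.Surjective f := by
    rintro ⟨a, b⟩
    refine ⟨∑ i, (b i • F.e i + (a i / P.ε) • F.f i), Prod.ext (funext fun j => ?_) (funext fun j => ?_)⟩
    · show P.B _ (F.e j) = a j
      simp [F.ee, F.fe, ε_ne_zero P]
    · show P.B _ (F.f j) = b j
      simp [F.ff, F.ef]
  have hinj := (LinearMap.injective_iff_surjective_of_finrank_eq_finrank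
    (by rw [hN, Module.finrank_prod, Module.finrank_fin_fun]; omega)).2 hsurj
  have h : f (v - F.proj v) = f 0 := by
    rw [map_zero]
    exact Prod.ext (funext fun i => (F.rest_perp v i).1) (funext fun i => (F.rest_perp v i).2)
  exact (sub_eq_zero.1 (hinj h)).symm

omit [FiniteDimensional K V] in
theorem fix_proj {g : V ≃ₗ[K] V} (h : ∀ i, g (F.e i) = F.e i ∧ g (F.f i) = F.f i) (v : V) :
    g (F.proj v) = F.proj v := by
  simp [proj, map_sum, (h _).1, (h _).2]

theorem fix_all (hN : finrank K V = 2 * m) {g : V ≃ₗ[K] V}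
    (h : ∀ i, g (F.e i) = F.e i ∧ g (F.f i) = F.f i) : g = 1 := LinearEquiv.ext fun v => by
  rw [← F.proj_eq_self hN v, F.fix_proj h]; rfl

/-- An isometry of `p`-power order fixing a frame of corank at most one is trivial. -/
theorem fix_all_of_le [Finite K] {p : ℕ} [Fact p.Prime] [CharP K p]
    (hN : finrank K V ≤ 2 * m + 1) {g : V ≃ₗ[K] V} (hg : IsIso P g) {n : ℕ} (hn : g ^ p ^ n = 1)
    (h : ∀ i, g (F.e i) = F.e i ∧ g (F.f i) = F.f i) : g = 1 := by
  classical
  let f : V →ₗ[K] (Fin m → K) × (Fin m → K) :=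
    { toFun := fun v => (fun i => P.B v (F.e i), fun i => P.B v (F.f i))
      map_add' := fun a b => by ext <;> simp
      map_smul' := fun c a => by ext <;> simp }
  have hsurj : LinearMap.range f = ⊤ := by
    refine LinearMap.range_eq_top.2 ?_
    rintro ⟨a, b⟩
    refine ⟨∑ i, (b i • F.e i + (a i / P.ε) • F.f i), Prod.ext (funext fun j => ?_) (funext fun j => ?_)⟩
    · show P.B _ (F.e j) = a j
      simp [F.ee, F.fe, ε_ne_zero P]
    · show P.B _ (F.f j) = b j
      simp [F.ff, F.ef]
  have hker : finrank K (LinearMap.ker f) ≤ 1 := by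
    have h1 := f.finrank_range_add_finrank_ker
    rw [hsurj, finrank_top, Module.finrank_prod, Module.finrank_fin_fun] at h1
    omega
  refine LinearEquiv.ext fun v => ?_
  have hrest : ∀ r, f r = 0 → g r = r := by
    intro r hr
    rcases eq_or_ne r 0 with rfl | hr0
    · simp
    have hgr : f (g r) = 0 := by
      refine Prod.ext (funext fun i => ?_) (funext fun i => ?_)
      · show P.B (g r) (F.e i) = 0
        rw [← (h i).1, hg.1]; exact congrFun (congrArg Prod.fst hr) i
      · show P.B (g r) (F.f i) = 0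
        rw [← (h i).2, hg.1]; exact congrFun (congrArg Prod.snd hr) i
    have hsp : Submodule.span K {r} = LinearMap.ker f := Submodule.eq_of_le_of_finrank_le
      ((Submodule.span_singleton_le_iff_mem _ _).2 hr) (by rw [finrank_span_singleton hr0]; exact hker)
    obtain ⟨c, hc⟩ := Submodule.mem_span_singleton.1 (hsp.ge hgr : g r ∈ Submodule.span K {r})
    exact eigen_one hr0 hn hc.symm
  have h0 : f (v - F.proj v) = 0 :=
    Prod.ext (funext fun i => (F.rest_perp v i).1) (funext fun i => (F.rest_perp v i).2)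
  have e := hrest _ h0
  rw [map_sub, F.fix_proj h, sub_left_inj] at e
  exact e

end Frame

/-- The exponent of `p` in `p ^ a * r`. -/
theorem pow_factorization_eq {p n a r : ℕ} (hp : p.Prime) (hn : n = p ^ a * r) (hr : ¬ p ∣ r) :
    p ^ n.factorization p = p ^ a := by
  have hr0 : r ≠ 0 := fun h => hr (h ▸ dvd_zero p)
  rw [hn, Nat.factorization_mul (pow_ne_zero _ hp.ne_zero) hr0]
  simp [hp.factorization_pow, Nat.factorization_eq_zero_of_not_dvd hr]

theorem not_dvd_pow_sub_one {p q k : ℕ} (hp : p.Prime) (hq : p ∣ q) (hq0 : 0 < q) (hk : 1 ≤ k) :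
    ¬ p ∣ q ^ k - 1 := by
  intro h
  have h2 : p ∣ 1 := by
    have := Nat.dvd_sub (hq.trans (dvd_pow_self q (by omega : k ≠ 0))) h
    rwa [Nat.sub_sub_self (Nat.one_le_pow _ _ hq0)] at this
  exact hp.not_dvd_one h2

/-- `∏_{j<m} q^(2(m-j)-1) = q^(m²)`. -/
theorem prod_odd_pow (q : ℕ) : ∀ m : ℕ,
    ∏ j ∈ Finset.range m, q ^ (2 * m - 2 * j - 1) = q ^ m ^ 2 := by
  intro m
  induction m with
  | zero => simp
  | succ m ih =>
    rw [Finset.prod_range_succ']
    have h : ∀ j, 2 * (m + 1) - 2 * (j + 1) - 1 = 2 * m - 2 * j - 1 := fun j => by omega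
    simp only [h, ih, mul_zero, Nat.sub_zero, ← pow_add]
    congr 1
    rw [show 2 * (m + 1) - 1 = 2 * m + 1 by omega]
    ring

end Cfsg.Agent.PolarSteinberg52
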