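import Cfsg.Agent.Lib.CharCore.Rep
import Mathlib.GroupTheory.Sylow
import Mathlib.GroupTheory.GroupAction.Quotient

/-!
An invariant space of functions on a finite `G`-set which restricts bijectively to a regular orbit of
a Sylow `p`-subgroup carries an irreducible character of Steinberg type.
-/

set_option autoImplicit false

namespace Cfsg.Agent.PolarSteinberg52

universe u v

open scoped ComplexConjugate

variable {G : Type u} [Group G] {X : Type v} [MulAction G X]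

/-- Left translation of functions. -/
noncomputable def translateFun (G : Type u) [Group G] (X : Type v) [MulAction G X] :
    Representation ℂ G (X → ℂ) where
  toFun g := LinearMap.funLeft ℂ ℂ (fun x : X => g⁻¹ • x)
  map_one' := by ext f x; simp [LinearMap.funLeft_apply]
  map_mul' g h := by ext f x; simp [LinearMap.funLeft_apply, mul_smul]

theorem translateFun_apply (g : G) (f : X → ℂ) (x : X) : translateFun G X g f x = f (g⁻¹ • x) := rfl

variable [Finite G] [Finite X] {p : ℕ} [hp : Fact p.Prime]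

theorem exists_char (W : Submodule ℂ (X → ℂ))
    (hW : ∀ g : G, ∀ f ∈ W, translateFun G X g f ∈ W) (U : Sylow p G) (x₀ : X)
    (hx₀ : ∀ u ∈ U, u • x₀ = x₀) (O : Set X) (hOU : ∀ u ∈ U, ∀ x ∈ O, u • x ∈ O)
    (hfree : ∀ u ∈ U, ∀ x ∈ O, u • x = x → u = 1) (hcard : Nat.card O = Nat.card U)
    (hinj : ∀ f ∈ W, (∀ x ∈ O, f x = 0) → f = 0)
    (hsupp : ∀ o ∈ O, ∃ f ∈ W, f o ≠ 0 ∧ ∀ x ∈ O, x ≠ o → f x = 0)
    (hfix : ∃ o ∈ O, ∃ U' : Sylow p G, ∀ u ∈ U', u • o = o) :
    ∃ χ : G → ℂ, Cfsg.IsIrrCharacter G χ ∧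
      ∀ P : Sylow p G, χ 1 = Nat.card P ∧ ∀ x : G, x ∈ P → x ≠ 1 → χ x = 0 := by
  classical
  letI := Fintype.ofFinite X
  letI := Fintype.ofFinite G
  let S : Subrepresentation (translateFun G X) := ⟨W, hW⟩
  set ρ := S.toRepresentation
  obtain ⟨o₀, ho₀, U', hU'⟩ := hfix
  -- `U` is regular on `O`
  have hbij : Function.Bijective (fun u : U => (⟨(u : G) • o₀, hOU u u.2 o₀ ho₀⟩ : O)) := by
    haveI := Fintype.ofFinite O
    haveI := Fintype.ofFinite U
    rw [Fintype.bijective_iff_injective_and_card, Fintype.card_eq_nat_card,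
      Fintype.card_eq_nat_card]
    refine ⟨fun u u' h => ?_, hcard.symm⟩
    have h1 : (u : G) • o₀ = (u' : G) • o₀ := congrArg Subtype.val h
    have h2 := hfree _ (mul_mem (inv_mem u'.2) u.2) o₀ ho₀ (by rw [mul_smul, h1, inv_smul_smul])
    exact Subtype.ext (inv_mul_eq_one.1 h2).symm
  -- restriction to `O`
  let res : ↥W →ₗ[ℂ] (O → ℂ) := (LinearMap.funLeft ℂ ℂ Subtype.val).comp W.subtype
  have hres : Function.Bijective res := by
    refine ⟨(injective_iff_map_eq_zero res).2 fun f hf =>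
      Subtype.ext (hinj f f.2 fun x hx => congrFun hf ⟨x, hx⟩), fun φ => ?_⟩
    choose f hfW hfo hfz using hsupp
    refine ⟨⟨∑ o : O, (φ o / f o o.2 o) • f o o.2, Submodule.sum_mem _ fun o _ =>
      W.smul_mem _ (hfW o o.2)⟩, funext fun y => ?_⟩
    show (∑ o : O, (φ o / f o o.2 o) • f o o.2) (y : X) = φ y
    rw [Finset.sum_apply, Finset.sum_eq_single y]
    · rw [Pi.smul_apply, smul_eq_mul, div_mul_cancel₀ _ (hfo y y.2)]
    · intro o _ hne
      rw [Pi.smul_apply, hfz o o.2 y y.2 fun h => hne (Subtype.ext h).symm, smul_zero]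
    · exact fun h => absurd (Finset.mem_univ y) h
  set e := LinearEquiv.ofBijective res hres
  -- the character on `U`
  have hχU : ∀ u ∈ U, ρ.character u = (Nat.card {y : O // u • (y : X) = y} : ℂ) := by
    intro u hu
    rw [show ρ.character u = LinearMap.trace ℂ _ (ρ u) from rfl, ← LinearMap.trace_conj' (ρ u) e,
      LinearMap.trace_eq_matrix_trace ℂ (Pi.basisFun ℂ O), Matrix.trace, Nat.card_eq_fintype_card,
      Fintype.card_subtype, ← Finset.sum_boole]
    refine Finset.sum_congr rfl fun y _ => ?_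
    rw [Matrix.diag_apply, LinearMap.toMatrix_apply]
    simp only [Pi.basisFun_repr, Pi.basisFun_apply, LinearEquiv.conj_apply_apply]
    obtain ⟨f, hf⟩ : ∃ f, e f = Pi.single y (1 : ℂ) := ⟨_, e.apply_symm_apply _⟩
    rw [← hf, e.symm_apply_apply]
    show (f : X → ℂ) (u⁻¹ • (y : X)) = _
    have h1 := congrFun hf ⟨u⁻¹ • (y : X), hOU _ (inv_mem hu) _ y.2⟩
    rw [show (f : X → ℂ) (u⁻¹ • (y : X)) = _ from h1, Pi.single_apply]
    refine if_congr ?_ rfl rfl
    rw [Subtype.ext_iff]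
    show u⁻¹ • (y : X) = y ↔ _
    rw [inv_smul_eq_iff, eq_comm]
  have hχ1 : ρ.character 1 = (Nat.card U : ℂ) := by
    rw [hχU 1 (one_mem _), ← hcard]
    congr 1
    exact Nat.card_congr (Equiv.subtypeUnivEquiv fun y => one_smul G _)
  have hχ0 : ∀ u ∈ U, u ≠ 1 → ρ.character u = 0 := fun u hu hu1 => by
    haveI : IsEmpty {y : O // u • (y : X) = y} := ⟨fun y => hu1 (hfree u hu y.1 y.1.2 y.2)⟩
    rw [hχU u hu, Nat.card_of_isEmpty, Nat.cast_zero]
  -- every non-zero invariant subspace has a non-zero vector fixed by `U`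
  have hmove : ∀ (V' : Subrepresentation (translateFun G X)), V'.toSubmodule ≤ W →
      V'.toSubmodule ≠ ⊥ → ∃ F ∈ V'.toSubmodule, F ≠ 0 ∧ ∀ u ∈ U, ∀ x, F (u • x) = F x := by
    intro V' hV' hne
    obtain ⟨f, hfV, hf0⟩ := Submodule.exists_mem_ne_zero_of_ne_bot hne
    obtain ⟨o, ho, hfo⟩ : ∃ o ∈ O, f o ≠ 0 := by
      by_contra hno
      push Not at hno
      exact hf0 (hinj f (hV' hfV) hno)
    obtain ⟨⟨t, ht⟩, htu⟩ := hbij.2 ⟨o, ho⟩
    obtain ⟨g, hg⟩ := MulAction.exists_smul_eq G U' U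
    -- `k` carries a point fixed by `U` to `o`
    obtain ⟨k, hk⟩ : ∃ k : G, ∀ u ∈ U, (k⁻¹ * u * k) • o₀ = o₀ := ⟨g, fun u hu => hU' _ (by
      rw [← hg] at hu
      change u ∈ ((g • U' : Sylow p G) : Subgroup G) at hu
      rw [Sylow.coe_subgroup_smul] at hu
      obtain ⟨v, hv, rfl⟩ := hu
      show g⁻¹ * (g * v * g⁻¹) * g ∈ U'
      rw [show g⁻¹ * (g * v * g⁻¹) * g = v by group]
      exact hv)⟩
    let h := t * k⁻¹
    have hpt : ∀ u ∈ U, h • (u • (k • o₀)) = o := fun u hu => by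
      have h1 := hk u hu
      rw [mul_smul, mul_smul] at h1
      show (t * k⁻¹) • _ = o
      rw [mul_smul, h1]
      exact congrArg Subtype.val htu
    let F : X → ℂ := ∑ u : U, translateFun G X (h * (u : G))⁻¹ f
    have hFval : ∀ z, F z = ∑ u : U, f ((h * (u : G)) • z) := fun z => by
      simp only [F, Finset.sum_apply, translateFun_apply, inv_inv]
    refine ⟨F, Submodule.sum_mem _ fun u _ => V'.apply_mem_toSubmodule _ hfV, fun hF0 => ?_,
      fun u hu x => ?_⟩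
    · have h1 := hFval (k • o₀)
      rw [hF0, Finset.sum_congr rfl (g := fun _ => f o) fun u _ => by rw [mul_smul, hpt u u.2],
        Finset.sum_const, Finset.card_univ, nsmul_eq_mul] at h1
      exact mul_ne_zero (by exact_mod_cast Fintype.card_ne_zero) hfo h1.symm
    · rw [hFval, hFval]
      refine Fintype.sum_equiv (Equiv.mulRight (⟨u, hu⟩ : U)) _ _ fun c => ?_
      simp [mul_smul]
  -- vectors fixed by `U` are proportional
  have hline : ∀ F ∈ W, ∀ F' ∈ W, (∀ u ∈ U, ∀ x, F (u • x) = F x) →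
      (∀ u ∈ U, ∀ x, F' (u • x) = F' x) → F o₀ • F' = F' o₀ • F := by
    intro F hF F' hF' h1 h2
    refine sub_eq_zero.1 (hinj _ (sub_mem (W.smul_mem _ hF') (W.smul_mem _ hF)) fun x hx => ?_)
    obtain ⟨⟨u, hu⟩, hux⟩ := hbij.2 ⟨x, hx⟩
    have hx' : u • o₀ = x := congrArg Subtype.val hux
    rw [← hx', Pi.sub_apply, Pi.smul_apply, Pi.smul_apply, h1 u hu, h2 u hu, smul_eq_mul,
      smul_eq_mul]
    ring
  haveI : ρ.IsIrreducible := by
    have hWne : W ≠ ⊥ := by
      intro hbot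
      obtain ⟨f, hf, hfo, -⟩ := hsupp o₀ ho₀
      rw [hbot, Submodule.mem_bot] at hf
      exact hfo (by rw [hf]; rfl)
    have htop : (⊤ : Submodule ℂ W) ≠ ⊥ := fun h => hWne (by
      have := congrArg (Submodule.map W.subtype) h
      simpa using this)
    refine { exists_pair_ne := ⟨⊥, ⊤, fun h => htop
        (congrArg Subrepresentation.toSubmodule h).symm⟩, eq_bot_or_eq_top := fun V₁ => ?_ }
    by_cases hV₁ : V₁.toSubmodule = ⊥
    · exact Or.inl (Subrepresentation.toSubmodule_injective hV₁)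
    refine Or.inr (Subrepresentation.toSubmodule_injective ?_)
    set W₁ := V₁.toSubmodule.map W.subtype with hW₁
    have hW₁W : W₁ ≤ W := Submodule.map_subtype_le W _
    have hW₁inv : ∀ g, ∀ f ∈ W₁, translateFun G X g f ∈ W₁ := by
      rintro g _ ⟨f, hf, rfl⟩
      exact ⟨ρ g f, V₁.apply_mem_toSubmodule g hf, rfl⟩
    -- the orthogonal complement of `W₁` in `W`
    let W₂ : Submodule ℂ (X → ℂ) :=
      { carrier := {f | f ∈ W ∧ ∀ g ∈ W₁, ∑ x, f x * conj (g x) = 0}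
        zero_mem' := ⟨zero_mem _, fun g _ => by simp⟩
        add_mem' := fun {a b} ha hb => ⟨add_mem ha.1 hb.1, fun g hg => by
          simp [add_mul, Finset.sum_add_distrib, ha.2 g hg, hb.2 g hg]⟩
        smul_mem' := fun c a ha => ⟨W.smul_mem c ha.1, fun g hg => by
          simp [mul_assoc, ← Finset.mul_sum, ha.2 g hg]⟩ }
    have hW₂inv : ∀ g, ∀ f ∈ W₂, translateFun G X g f ∈ W₂ := by
      intro g f hf
      refine ⟨hW g f hf.1, fun k hk => ?_⟩
      rw [← hf.2 _ (hW₁inv g⁻¹ k hk)]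
      refine Fintype.sum_equiv (MulAction.toPerm g⁻¹) _ _ fun x => ?_
      simp [translateFun_apply]
    have hW₂ : W₂ = ⊥ := by
      by_contra h2
      obtain ⟨F₁, hF₁, hF₁0, hF₁fix⟩ := hmove ⟨W₁, hW₁inv⟩ hW₁W (fun h => hV₁
        (Submodule.map_injective_of_injective W.injective_subtype (by rw [Submodule.map_bot]; exact h)))
      obtain ⟨F₂, hF₂, hF₂0, hF₂fix⟩ := hmove ⟨W₂, hW₂inv⟩ (fun f hf => hf.1) h2
      have hF₁o : F₁ o₀ ≠ 0 := fun h0 => hF₁0 (hinj _ (hW₁W hF₁) fun x hx => by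
        obtain ⟨⟨u, hu⟩, hux⟩ := hbij.2 ⟨x, hx⟩
        have hx' : u • o₀ = x := congrArg Subtype.val hux
        rw [← hx', hF₁fix u hu, h0])
      have he := hline F₁ (hW₁W hF₁) F₂ hF₂.1 hF₁fix hF₂fix
      have hF₂W₁ : F₂ ∈ W₁ := by
        rw [← W₁.smul_mem_iff hF₁o, he]
        exact W₁.smul_mem _ hF₁
      have h0 := hF₂.2 F₂ hF₂W₁
      refine hF₂0 (funext fun x => ?_)
      have hre : ∑ x, Complex.normSq (F₂ x) = 0 := by
        simp only [Complex.mul_conj] at h0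
        exact_mod_cast h0
      exact Complex.normSq_eq_zero.1
        ((Finset.sum_eq_zero_iff_of_nonneg fun x _ => Complex.normSq_nonneg _).1 hre x (Finset.mem_univ x))
    set b := Module.finBasis ℂ W₁
    let T : ↥W →ₗ[ℂ] (Fin (Module.finrank ℂ W₁) → ℂ) :=
      { toFun := fun f i => ∑ x, (f : X → ℂ) x * conj ((b i : X → ℂ) x)
        map_add' := fun f f' => by ext i; simp [add_mul, Finset.sum_add_distrib]
        map_smul' := fun c f => by ext i; simp [mul_assoc, Finset.mul_sum] }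
    have hT : Function.Injective T := by
      refine (injective_iff_map_eq_zero T).2 fun f hf => Subtype.ext ?_
      have hmem : (f : X → ℂ) ∈ W₂ := ⟨f.2, fun g hg => by
        have hg' : g = ∑ i, b.repr ⟨g, hg⟩ i • (b i : X → ℂ) := by
          have h1 := congrArg Subtype.val (b.sum_repr ⟨g, hg⟩)
          simp only [Submodule.coe_sum, Submodule.coe_smul] at h1
          exact h1.symm
        rw [hg']
        simp only [Finset.sum_apply, Pi.smul_apply, smul_eq_mul, map_sum, map_mul, Finset.mul_sum]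
        rw [Finset.sum_comm]
        refine Finset.sum_eq_zero fun i _ => ?_
        have h1 := congrFun hf i
        calc ∑ x, (f : X → ℂ) x * (conj (b.repr ⟨g, hg⟩ i) * conj ((b i : X → ℂ) x))
            = conj (b.repr ⟨g, hg⟩ i) * ∑ x, (f : X → ℂ) x * conj ((b i : X → ℂ) x) := by
              rw [Finset.mul_sum]; exact Finset.sum_congr rfl fun x _ => by ring
          _ = 0 := by rw [show (∑ x, (f : X → ℂ) x * conj ((b i : X → ℂ) x)) = 0 from h1, mul_zero]⟩
      rw [hW₂, Submodule.mem_bot] at hmem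
      exact hmem
    have hdim : Module.finrank ℂ W ≤ Module.finrank ℂ W₁ :=
      (LinearMap.finrank_le_finrank_of_injective hT).trans (Module.finrank_fin_fun ℂ).le
    have heq : W₁ = W := Submodule.eq_of_le_of_finrank_le hW₁W hdim
    refine Submodule.map_injective_of_injective W.injective_subtype ?_
    show W₁ = Submodule.map W.subtype ⊤
    rw [Submodule.map_subtype_top, heq]
  refine ⟨ρ.character, CharCore.isIrrCharacter_character ρ, fun P => ⟨?_, fun x hx hx1 => ?_⟩⟩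
  · rw [hχ1, Sylow.card_eq_multiplicity, Sylow.card_eq_multiplicity]
  · obtain ⟨g, hg⟩ := MulAction.exists_smul_eq G U P
    rw [← hg] at hx
    change x ∈ ((g • U : Sylow p G) : Subgroup G) at hx
    rw [Sylow.coe_subgroup_smul] at hx
    obtain ⟨v, hv, rfl⟩ := hx
    change g * v * g⁻¹ ≠ 1 at hx1
    show ρ.character (g * v * g⁻¹) = 0
    rw [Representation.char_conj]
    exact hχ0 v hv fun h1 => hx1 (by simp [h1])

/-- The same for a central quotient acting through `G`. -/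
theorem exists_char_quotient (Z : Subgroup G) [Z.Normal] (hZ : ∀ z ∈ Z, ∀ x : X, z • x = x)
    (hZp : ¬ p ∣ Nat.card Z) (W : Submodule ℂ (X → ℂ))
    (hW : ∀ g : G, ∀ f ∈ W, translateFun G X g f ∈ W) (U : Sylow p G) (x₀ : X)
    (hx₀ : ∀ u ∈ U, u • x₀ = x₀) (O : Set X) (hOU : ∀ u ∈ U, ∀ x ∈ O, u • x ∈ O)
    (hfree : ∀ u ∈ U, ∀ x ∈ O, u • x = x → u = 1) (hcard : Nat.card O = Nat.card U)
    (hinj : ∀ f ∈ W, (∀ x ∈ O, f x = 0) → f = 0)
    (hsupp : ∀ o ∈ O, ∃ f ∈ W, f o ≠ 0 ∧ ∀ x ∈ O, x ≠ o → f x = 0)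
    (hfix : ∃ o ∈ O, ∃ U' : Sylow p G, ∀ u ∈ U', u • o = o) :
    ∃ χ : G ⧸ Z → ℂ, Cfsg.IsIrrCharacter (G ⧸ Z) χ ∧
      ∀ P : Sylow p (G ⧸ Z), χ 1 = Nat.card P ∧ ∀ x : G ⧸ Z, x ∈ P → x ≠ 1 → χ x = 0 := by
  have hker : Z ≤ (MulAction.toPermHom G X).ker := fun z hz => Equiv.ext fun x => hZ z hz x
  letI : MulAction (G ⧸ Z) X := MulAction.compHom X (QuotientGroup.lift Z _ hker)
  have hsmul : ∀ (g : G) (x : X), (g : G ⧸ Z) • x = g • x := fun _ _ => rfl
  have hsurj := QuotientGroup.mk'_surjective Z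
  set U₁ := U.mapSurjective hsurj
  have hU₁ : ∀ q ∈ U₁, ∃ u ∈ U, (u : G ⧸ Z) = q := fun q hq => hq
  have hcard' : Nat.card U₁ = Nat.card U := by
    refine (Nat.card_congr (Equiv.ofBijective
      (fun u : U => (⟨(u : G ⧸ Z), ⟨u, u.2, rfl⟩⟩ : U₁)) ⟨fun u u' h => ?_, ?_⟩)).symm
    · have h1 : ((u : G))⁻¹ * u' ∈ Z := QuotientGroup.eq.1 (congrArg Subtype.val h)
      have h2 : (u : G)⁻¹ * u' ∈ U := mul_mem (inv_mem u.2) u'.2
      obtain ⟨k, hk⟩ := U.2 ⟨_, h2⟩
      have h3 : orderOf ((u : G)⁻¹ * u') ∣ p ^ k :=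
        orderOf_dvd_of_pow_eq_one (congrArg Subtype.val hk)
      have h4 : orderOf ((u : G)⁻¹ * u') ∣ Nat.card Z := Subgroup.orderOf_dvd_natCard Z h1
      have h5 : orderOf ((u : G)⁻¹ * u') = 1 := Nat.eq_one_of_dvd_coprimes
        (Nat.Coprime.pow_left k ((Nat.Prime.coprime_iff_not_dvd hp.out).2 hZp)) h3 h4
      exact Subtype.ext (inv_mul_eq_one.1 (orderOf_eq_one_iff.1 h5))
    · rintro ⟨q, hq⟩
      obtain ⟨u, hu, rfl⟩ := hU₁ q hq
      exact ⟨⟨u, hu⟩, rfl⟩
  refine exists_char W (fun q f hf => ?_) U₁ x₀ (fun q hq => ?_) O (fun q hq x hx => ?_)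
    (fun q hq x hx e => ?_) (hcard.trans hcard'.symm) hinj hsupp ?_
  · obtain ⟨g, rfl⟩ := hsurj q
    exact hW g f hf
  · obtain ⟨u, hu, rfl⟩ := hU₁ q hq
    exact hx₀ u hu
  · obtain ⟨u, hu, rfl⟩ := hU₁ q hq
    exact hOU u hu x hx
  · obtain ⟨u, hu, rfl⟩ := hU₁ q hq
    rw [hfree u hu x hx e]; rfl
  · obtain ⟨o, ho, U', hU'⟩ := hfix
    refine ⟨o, ho, U'.mapSurjective hsurj, ?_⟩
    rintro q ⟨u, hu, rfl⟩
    exact hU' u hu

end Cfsg.Agent.PolarSteinberg52
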