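import Cfsg.Agent.PolarSteinberg52.Form
import Mathlib.Data.Complex.Basic
import Mathlib.Algebra.BigOperators.Pi
import Mathlib.Algebra.Module.Submodule.Basic

/-!
Maximal flags of totally singular subspaces; functions with zero sums over all panels are
determined by their values on the flags opposite to a given one.
-/

set_option autoImplicit false

namespace Cfsg.Agent.PolarSteinberg52

universe u v w

open Module

variable {K : Type u} {V : Type v} {T : Type w} [Field K] [AddCommGroup V] [Module K V]
  [AddCommGroup T]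

/-- A maximal flag of totally singular subspaces of dimension at most `m`. -/
structure Chamber (P : PForm K V T) (m : ℕ) where
  /-- the subspaces -/
  sub : ℕ → Submodule K V
  rank : ∀ i, finrank K (sub i) = min i m
  mono : Monotone sub
  ts : ∀ i, P.TS (sub i)

/-- All totally singular subspaces have dimension at most `m`, some have dimension `m`. -/
structure Witt (P : PForm K V T) (m : ℕ) : Prop where
  le : ∀ W, P.TS W → finrank K W ≤ m
  exists_max : ∃ M, P.TS M ∧ finrank K M = m

variable [FiniteDimensional K V] {P : PForm K V T} {m : ℕ}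

namespace Chamber

theorem sub_zero (x : Chamber P m) : x.sub 0 = ⊥ :=
  Submodule.finrank_eq_zero.1 (by rw [x.rank, Nat.zero_min])

theorem sub_of_le (x : Chamber P m) {i : ℕ} (h : m ≤ i) : x.sub i = x.sub m :=
  (Submodule.eq_of_le_of_finrank_eq (x.mono h) (by rw [x.rank, x.rank]; omega)).symm

theorem ext' {x y : Chamber P m} (h : ∀ i, 1 ≤ i → i ≤ m → x.sub i = y.sub i) : x = y := by
  have h' : ∀ i ≤ m, x.sub i = y.sub i := fun i hi => by
    rcases Nat.eq_zero_or_pos i with rfl | h0
    · rw [x.sub_zero, y.sub_zero]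
    · exact h i h0 hi
  have : x.sub = y.sub := funext fun i => by
    rcases le_or_gt i m with hi | hi
    · exact h' i hi
    · rw [x.sub_of_le hi.le, y.sub_of_le hi.le, h' m le_rfl]
  cases x; cases y; cases this; rfl

end Chamber

theorem sup_eq_of_finrank {W L : Submodule K V} {v : V} (hWL : W ≤ L) (hv : v ∈ L) (hvW : v ∉ W)
    (hd : finrank K L = finrank K W + 1) : W ⊔ Submodule.span K {v} = L := by
  have hle : W ⊔ Submodule.span K {v} ≤ L :=
    sup_le hWL ((Submodule.span_singleton_le_iff_mem v L).2 hv)
  refine Submodule.eq_of_le_of_finrank_le hle ?_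
  have hlt : W < W ⊔ Submodule.span K {v} := left_lt_sup.2 fun h =>
    hvW (h (Submodule.mem_span_singleton_self v))
  have := Submodule.finrank_lt_finrank_of_lt hlt
  omega

theorem finrank_sup_span {W : Submodule K V} {v : V} (hvW : v ∉ W) :
    finrank K ↥(W ⊔ Submodule.span K {v}) = finrank K W + 1 := by
  have hv0 : v ≠ 0 := fun h => hvW (h ▸ zero_mem W)
  have h := Submodule.finrank_sup_add_finrank_inf_eq W (Submodule.span K {v})
  rw [disjoint_iff.1 ((Submodule.disjoint_span_singleton' hv0).2 hvW), finrank_bot, add_zero,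
    finrank_span_singleton hv0] at h
  exact h

/-- Any partial flag completes to a maximal one. -/
theorem Witt.exists_chamber (hw : Witt P m) : ∀ d n, n + d = m → ∀ c : ℕ → Submodule K V,
    (∀ i ≤ n, finrank K (c i) = i) → (∀ i < n, c i ≤ c (i + 1)) → (∀ i ≤ n, P.TS (c i)) →
    ∃ a : Chamber P m, ∀ i ≤ n, a.sub i = c i := by
  intro d
  induction d with
  | zero =>
    rintro n hn c hr hm ht
    obtain rfl : n = m := hn
    refine ⟨⟨fun i => c (min i n), fun i => hr _ (min_le_right _ _),
      monotone_nat_of_le_succ fun i => ?_, fun i => ht _ (min_le_right _ _)⟩, fun i hi => ?_⟩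
    · show c (min i n) ≤ c (min (i + 1) n)
      rcases lt_or_ge i n with hi | hi
      · rw [min_eq_left hi.le, min_eq_left (show i + 1 ≤ n by omega)]; exact hm i hi
      · rw [min_eq_right hi, min_eq_right (by omega)]
    · show c (min i n) = c i
      rw [min_eq_left hi]
  | succ d ih =>
    intro n hn c hr hm ht
    obtain ⟨M, hM, hMm⟩ := hw.exists_max
    obtain ⟨v, hvM, hvp, hvn⟩ := PForm.TS.exists_extend P (ht n le_rfl) hM
      (by rw [hr n le_rfl, hMm]; omega)
    obtain ⟨a, ha⟩ := ih (n + 1) (by omega)
      (fun i => if i ≤ n then c i else c n ⊔ Submodule.span K {v})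
      (fun i hi => by
        rcases le_or_gt i n with h | h
        · rw [if_pos h]; exact hr i h
        · rw [if_neg (Nat.not_le.2 h), finrank_sup_span hvn, hr n le_rfl]; omega)
      (fun i hi => by
        rw [if_pos (show i ≤ n by omega)]
        split_ifs with h
        · exact hm i (by omega)
        · obtain rfl : i = n := by omega
          exact le_sup_left)
      (fun i hi => by
        split_ifs with h
        · exact ht i h
        · exact PForm.TS.sup_span P (ht n le_rfl) hvp (hM.q0_eq v hvM))
    exact ⟨a, fun i hi => by rw [ha i (by omega), if_pos hi]⟩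

/-- Equal away from the `i`-th subspace. -/
def SameOff (i : ℕ) (x y : Chamber P m) : Prop := ∀ j ≤ m, j ≠ i → y.sub j = x.sub j

/-- Agreement up to `k`. -/
def Agree (k : ℕ) (a x : Chamber P m) : Prop := ∀ j ≤ k, x.sub j = a.sub j

/-- Opposite above `a.sub k`. -/
def Opp (k : ℕ) (a x : Chamber P m) : Prop :=
  Agree k a x ∧ ∀ i, k < i → i ≤ m → x.sub i ⊓ P.perp (a.sub i) = a.sub k

/-- The functions with zero sum on every panel. -/
noncomputable def panelSpace [Fintype (Chamber P m)] : Submodule ℂ (Chamber P m → ℂ) := by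
  classical
  exact
  { carrier := {f | ∀ i, 1 ≤ i → i ≤ m → ∀ x, ∑ y with SameOff i x y, f y = 0}
    zero_mem' := fun i _ _ x => by simp
    add_mem' := fun {a b} ha hb i h1 h2 x => by
      simp only [Pi.add_apply, Finset.sum_add_distrib, ha i h1 h2 x, hb i h1 h2 x, add_zero]
    smul_mem' := fun c a ha i h1 h2 x => by
      simp only [Pi.smul_apply, smul_eq_mul, ← Finset.mul_sum, ha i h1 h2 x, mul_zero] }

open scoped Classical in
theorem mem_panelSpace [Fintype (Chamber P m)] {f : Chamber P m → ℂ} :
    f ∈ panelSpace ↔ ∀ i, 1 ≤ i → i ≤ m → ∀ x, ∑ y with SameOff i x y, f y = 0 := Iff.rfl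

theorem eq_zero_of_panel [Fintype (Chamber P m)] {f : Chamber P m → ℂ} (hf : f ∈ panelSpace)
    {i : ℕ} (h1 : 1 ≤ i) (h2 : i ≤ m) {x : Chamber P m}
    (h : ∀ y, SameOff i x y → y.sub i ≠ x.sub i → f y = 0) : f x = 0 := by
  classical
  have := mem_panelSpace.1 hf i h1 h2 x
  rw [Finset.sum_eq_single x] at this
  · exact this
  · intro y hy hne
    refine h y (Finset.mem_filter.1 hy).2 fun e => hne (Chamber.ext' fun j _ hj => ?_)
    rcases eq_or_ne j i with rfl | hji
    · exact e
    · exact (Finset.mem_filter.1 hy).2 j hj hji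
  · intro hx
    exact absurd (Finset.mem_filter.2 ⟨Finset.mem_univ _, fun j _ _ => rfl⟩) hx

variable (hw : Witt P m)
include hw

/-- The base flag induced on the residue of a point not orthogonal to the first point. -/
theorem exists_base {a x : Chamber P m} {k : ℕ} (hk : k < m) (hagree : Agree k a x)
    (hperp : ¬ x.sub (k + 1) ≤ P.perp (a.sub (k + 1))) :
    ∃ a' : Chamber P m, Agree (k + 1) x a' ∧ ∀ j, k + 1 < j → j ≤ m →
      a'.sub j = x.sub (k + 1) ⊔ (a.sub j ⊓ P.perp (x.sub (k + 1))) := by
  set L := x.sub (k + 1) with hL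
  have hW : x.sub k = a.sub k := hagree k le_rfl
  have hWL : x.sub k ≤ L := x.mono (by omega)
  have hdW : finrank K (x.sub k) = k := by rw [x.rank]; omega
  have hdL : finrank K L = k + 1 := by rw [hL, x.rank]; omega
  have hdj : ∀ j, k + 1 < j → j ≤ m →
      finrank K ↥(L ⊔ (a.sub j ⊓ P.perp L)) = j ∧ P.TS (L ⊔ (a.sub j ⊓ P.perp L)) := by
    intro j hj hjm
    refine ⟨?_, PForm.TS.sup P (x.ts (k + 1)) (PForm.TS.mono P (a.ts j) inf_le_left)
      (P.le_perp_comm.1 inf_le_right)⟩
    have hda : finrank K (a.sub j) = j := by rw [a.rank]; omega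
    -- `a_j ∩ L^⊥` is a hyperplane of `a_j`
    have h1 : a.sub j ⊔ P.perp L ≤ P.perp (x.sub k) := by
      refine sup_le ?_ (P.perp_anti hWL)
      rw [hW]
      exact (a.ts j).le_perp.trans (P.perp_anti (a.mono (by omega)))
    have h2 := Submodule.finrank_mono h1
    have h3 := P.finrank_perp (x.sub k)
    have h4 := P.finrank_perp L
    have h5 := Submodule.finrank_sup_add_finrank_inf_eq (a.sub j) (P.perp L)
    have h6 : a.sub j ⊓ P.perp L < a.sub j := lt_of_le_of_ne inf_le_left fun e =>
      hperp (P.le_perp_comm.1 ((a.mono hj.le).trans (inf_eq_left.1 e)))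
    have h7 := Submodule.finrank_lt_finrank_of_lt h6
    -- which meets `L` in `x_k`
    have h8 : L ⊓ (a.sub j ⊓ P.perp L) = x.sub k := by
      refine (Submodule.eq_of_le_of_finrank_le (le_inf hWL (le_inf ?_ ?_)) ?_).symm
      · rw [hW]; exact a.mono (by omega)
      · exact hWL.trans (x.ts (k + 1)).le_perp
      · rw [hdW]
        have hlt : L ⊓ (a.sub j ⊓ P.perp L) < L := lt_of_le_of_ne inf_le_left fun e =>
          hperp (((inf_eq_left.1 e).trans inf_le_left).trans
            ((a.ts j).le_perp.trans (P.perp_anti (a.mono hj.le))))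
        have := Submodule.finrank_lt_finrank_of_lt hlt
        omega
    have h9 := Submodule.finrank_sup_add_finrank_inf_eq L (a.sub j ⊓ P.perp L)
    rw [h8] at h9
    omega
  obtain ⟨a', ha'⟩ := hw.exists_chamber 0 m rfl
    (fun j => if j ≤ k + 1 then x.sub j else L ⊔ (a.sub j ⊓ P.perp L))
    (fun j hj => by
      rcases le_or_gt j (k + 1) with h | h
      · rw [if_pos h, x.rank]; omega
      · rw [if_neg (Nat.not_le.2 h)]; exact (hdj j h hj).1)
    (fun j hj => by
      split_ifs with h h' h'
      · exact x.mono (by omega)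
      · exact le_sup_of_le_left (x.mono h)
      · omega
      · exact sup_le_sup_left (inf_le_inf_right _ (a.mono (by omega))) _)
    (fun j hj => by
      split_ifs with h
      · exact x.ts j
      · exact (hdj j (by omega) hj).2)
  exact ⟨a', fun j hj => by rw [ha' j (by omega), if_pos hj],
    fun j hj hjm => by rw [ha' j hjm, if_neg (by omega)]⟩

theorem opp_of_base {a a' x y : Chamber P m} {k : ℕ} (hagree : Agree k a x)
    (hperp : ¬ x.sub (k + 1) ≤ P.perp (a.sub (k + 1))) (ha' : Agree (k + 1) x a')
    (ha'' : ∀ j, k + 1 < j → j ≤ m →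
      a'.sub j = x.sub (k + 1) ⊔ (a.sub j ⊓ P.perp (x.sub (k + 1))))
    (hy : Opp (k + 1) a' y) (hk : k < m) : Opp k a y := by
  have hyL : y.sub (k + 1) = x.sub (k + 1) := by rw [hy.1 (k + 1) le_rfl, ha' (k + 1) le_rfl]
  have hagree' : Agree k a y := fun j hj => by
    rw [hy.1 j (by omega), ha' j (by omega), hagree j hj]
  have hLW : x.sub (k + 1) ⊓ P.perp (a.sub (k + 1)) = a.sub k := by
    rw [← hagree k le_rfl]
    refine (Submodule.eq_of_le_of_finrank_le (le_inf (x.mono (by omega)) ?_) ?_).symm
    · rw [hagree k le_rfl]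
      exact (a.mono (show k ≤ k + 1 by omega)).trans (a.ts (k + 1)).le_perp
    · have hlt := Submodule.finrank_lt_finrank_of_lt
        (lt_of_le_of_ne inf_le_left fun e => hperp (inf_eq_left.1 e) :
          x.sub (k + 1) ⊓ P.perp (a.sub (k + 1)) < x.sub (k + 1))
      rw [x.rank] at hlt ⊢
      omega
  refine ⟨hagree', fun i hi him => le_antisymm ?_ (le_inf ?_ ?_)⟩
  · rcases eq_or_lt_of_le (Nat.succ_le_of_lt hi) with rfl | hi'
    · rw [hyL]; exact hLW.le
    · intro u hu
      have h1 : u ∈ P.perp (a'.sub i) := by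
        rw [ha'' i hi' him, P.perp_sup]
        refine ⟨?_, P.perp_anti inf_le_left hu.2⟩
        rw [← hyL]
        exact P.perp_anti (y.mono hi'.le) ((y.ts i).le_perp hu.1)
      have h2 : u ∈ x.sub (k + 1) := by
        rw [← ha' (k + 1) le_rfl, ← hy.2 i hi' him]
        exact ⟨hu.1, h1⟩
      rw [← hLW]
      exact ⟨h2, P.perp_anti (a.mono hi) hu.2⟩
  · rw [← hagree' k le_rfl]; exact y.mono hi.le
  · exact (a.mono hi.le).trans (a.ts i).le_perp

variable [Fintype (Chamber P m)]

theorem eq_zero_of_opp {f : Chamber P m → ℂ} (hf : f ∈ panelSpace) : ∀ n k, k + n = m →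
    ∀ a : Chamber P m, (∀ x, Opp k a x → f x = 0) → ∀ x, Agree k a x → f x = 0 := by
  intro n
  induction n with
  | zero =>
    rintro k hk a h x hx
    exact h x ⟨hx, fun i hi him => by omega⟩
  | succ n ih =>
    intro k hk a hop
    have claim0 : ∀ x, Agree k a x → ¬ x.sub (k + 1) ≤ P.perp (a.sub (k + 1)) → f x = 0 := by
      intro x hx hperp
      obtain ⟨a', ha', ha''⟩ := exists_base hw (by omega) hx hperp
      exact ih (k + 1) (by omega) a' (fun y hy => hop y
        (opp_of_base hw hx hperp ha' ha'' hy (by omega))) x fun j hj => (ha' j hj).symm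
    have claim1 : ∀ x, Agree k a x → x.sub (k + 1) ≠ a.sub (k + 1) → f x = 0 := by
      intro x hx hne
      by_cases hperp : x.sub (k + 1) ≤ P.perp (a.sub (k + 1))
      swap
      · exact claim0 x hx hperp
      set L := x.sub (k + 1) with hL
      set M := L ⊔ a.sub (k + 1)
      have hM : P.TS M := PForm.TS.sup P (x.ts _) (a.ts _) hperp
      have hW : x.sub k = a.sub k := hx k le_rfl
      have hMrank : finrank K M = k + 2 := by
        have h9 := Submodule.finrank_sup_add_finrank_inf_eq L (a.sub (k + 1))
        have hlt : L ⊓ a.sub (k + 1) < L := lt_of_le_of_ne inf_le_left fun e => hne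
          (Submodule.eq_of_le_of_finrank_eq (inf_eq_left.1 e) (by rw [hL, x.rank, a.rank]))
        have h10 := Submodule.finrank_lt_finrank_of_lt hlt
        have h11 : finrank K (x.sub k) ≤ finrank K ↥(L ⊓ a.sub (k + 1)) :=
          Submodule.finrank_mono (le_inf (x.mono (by omega)) (hW.le.trans (a.mono (by omega))))
        rw [hL, x.rank] at h10 h9
        rw [x.rank, hL] at h11
        rw [a.rank] at h9
        rw [show M = L ⊔ a.sub (k + 1) from rfl, hL]
        omega
      have hk2 : k + 2 ≤ m := hMrank ▸ hw.le M hM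
      obtain ⟨a', ha'⟩ := hw.exists_chamber (m - (k + 2)) (k + 2) (by omega)
        (fun j => if j ≤ k + 1 then x.sub j else M)
        (fun j hj => by
          rcases le_or_gt j (k + 1) with h | h
          · rw [if_pos h, x.rank]; omega
          · rw [if_neg (Nat.not_le.2 h), hMrank]; omega)
        (fun j hj => by
          split_ifs with h h' h'
          · exact x.mono (by omega)
          · exact le_sup_of_le_left (x.mono h)
          · omega
          · exact le_rfl)
        (fun j hj => by
          split_ifs with h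
          · exact x.ts j
          · exact hM)
      have hax : Agree (k + 1) x a' := fun j hj => by rw [ha' j (by omega), if_pos hj]
      have haM : a'.sub (k + 2) = M := by rw [ha' _ le_rfl, if_neg (by omega)]
      refine ih (k + 1) (by omega) a' (fun y hy => ?_) x fun j hj => (hax j hj).symm
      have hyL : y.sub (k + 1) = L := by rw [hy.1 _ le_rfl, hax _ le_rfl]
      refine eq_zero_of_panel hf (i := k + 1) (by omega) (by omega) fun z hz hzne => claim0 z ?_ ?_
      · intro j hj
        rw [hz j (by omega) (by omega), hy.1 j (by omega), hax j (by omega), hx j hj]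
      · intro hzA
        have h1 : z.sub (k + 1) ≤ y.sub (k + 2) ⊓ P.perp (a'.sub (k + 2)) := by
          rw [haM, P.perp_sup]
          refine le_inf ((z.mono (show k + 1 ≤ k + 2 by omega)).trans
            (hz (k + 2) hk2 (by omega)).le) (le_inf ?_ hzA)
          rw [← hyL]
          exact ((z.mono (show k + 1 ≤ k + 2 by omega)).trans
            ((hz (k + 2) hk2 (by omega)).le.trans (y.ts _).le_perp)).trans
            (P.perp_anti (y.mono (by omega)))
        rw [hy.2 (k + 2) (by omega) hk2, ← hy.1 (k + 1) le_rfl] at h1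
        exact hzne (Submodule.eq_of_le_of_finrank_eq h1 (by rw [z.rank, y.rank]))
    intro x hx
    by_cases hne : x.sub (k + 1) = a.sub (k + 1)
    · refine eq_zero_of_panel hf (i := k + 1) (by omega) (by omega) fun z hz hzne => claim1 z ?_ ?_
      · intro j hj
        rw [hz j (by omega) (by omega), hx j hj]
      · rw [← hne]; exact hzne
    · exact claim1 x hx hne

end Cfsg.Agent.PolarSteinberg52
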