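import Cfsg.Agent.PolarSteinberg52.Chamber
import Mathlib.FieldTheory.Finiteness
import Mathlib.Data.Finite.Sigma
import Mathlib.Tactic.LinearCombination
import Mathlib.Tactic.FieldSimp

/-!
The number of singular points over a totally singular subspace and the number of opposite flags.
-/

set_option autoImplicit false

namespace Cfsg.Agent.PolarSteinberg52

universe u v w

open Module

variable {K : Type u} {V : Type v} {T : Type w} [Field K] [AddCommGroup V] [Module K V]
  [AddCommGroup T] {P : PForm K V T} {m : ℕ}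

/-- The points over `W`. -/
abbrev Pts (P : PForm K V T) (W : Submodule K V) : Type v :=
  {L : Submodule K V // W ≤ L ∧ P.TS L ∧ finrank K L = finrank K W + 1}

/-- The singular vectors in the orthogonal space of `W`. -/
abbrev SV (P : PForm K V T) (W : Submodule K V) : Type v :=
  {v : V // v ∈ P.perp W ∧ P.q0 v = 0}

instance finite_chamber [Finite V] : Finite (Chamber P m) := by
  haveI : Finite (Submodule K V) := Finite.of_injective _ SetLike.coe_injective
  refine Finite.of_injective (fun x : Chamber P m => fun i : Fin (m + 1) => x.sub i) fun x y h => ?_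
  haveI : FiniteDimensional K V := Module.Finite.of_finite
  exact Chamber.ext' fun i _ hi => congrFun h ⟨i, by omega⟩

variable [Finite K] [FiniteDimensional K V]

theorem card_vec (U : Submodule K V) : Nat.card U = Nat.card K ^ finrank K U := by
  exact Module.natCard_eq_pow_finrank

/-- Translation classes. -/
theorem card_dvd_of_translation [Finite V] {S : Set V} {W : Submodule K V}
    (h : ∀ v ∈ S, ∀ w ∈ W, v + w ∈ S) : Nat.card W ∣ Nat.card S := by
  classical
  let S' : Set (V ⧸ W) := W.mkQ '' S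
  let e : S ≃ S' × W :=
    { toFun := fun v => (⟨W.mkQ v, v, v.2, rfl⟩,
        ⟨(v : V) - (Quotient.out (W.mkQ v) : V), by
          rw [← Submodule.Quotient.mk_eq_zero W, Submodule.Quotient.mk_sub,
            show (Submodule.Quotient.mk (Quotient.out (W.mkQ (v : V))) : V ⧸ W) = W.mkQ v from
              Quotient.out_eq _]
          simp⟩)
      invFun := fun x => ⟨(Quotient.out x.1.1 : V) + x.2, by
        obtain ⟨⟨_, v, hv, rfl⟩, w⟩ := x
        have hd : (Quotient.out (W.mkQ v) : V) - v ∈ W := by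
          rw [← Submodule.Quotient.mk_eq_zero W, Submodule.Quotient.mk_sub,
            show (Submodule.Quotient.mk (Quotient.out (W.mkQ v)) : V ⧸ W) = W.mkQ v from
              Quotient.out_eq _]
          simp
        have := h v hv _ (add_mem hd w.2)
        convert this using 1
        abel⟩
      left_inv := fun v => Subtype.ext (by simp)
      right_inv := fun x => by
        obtain ⟨⟨q, hq⟩, w⟩ := x
        have hm : W.mkQ ((Quotient.out q : V) + w) = q := by
          rw [map_add, show W.mkQ (w : V) = 0 from (Submodule.Quotient.mk_eq_zero W).2 w.2, add_zero]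
          exact Quotient.out_eq q
        refine Prod.ext (Subtype.ext hm) (Subtype.ext ?_)
        show (Quotient.out q : V) + w - (Quotient.out (W.mkQ ((Quotient.out q : V) + w)) : V) = w
        rw [hm]; abel }
  rw [Nat.card_congr e, Nat.card_prod]
  exact dvd_mul_left _ _

theorem exists_transversal_vec {W : Submodule K V} {a : V}
    (ha : a ∉ W) (haq : P.q0 a = 0) (haW : a ∈ P.perp W) :
    ∃ v₀, v₀ ∈ P.perp W ∧ P.q0 v₀ = 0 ∧ P.B v₀ a = 1 := by
  obtain ⟨v, hv, hva⟩ : ∃ v ∈ P.perp W, P.B v a ≠ 0 := by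
    by_contra hno
    push Not at hno
    exact ha (by rw [← P.perp_perp W]; exact P.mem_perp'.2 hno)
  set v' := (P.B v a)⁻¹ • v
  have hv'a : P.B v' a = 1 := by simp [v', hva]
  obtain ⟨t, ht⟩ := P.q0_range v'
  refine ⟨v' + P.σ (-t) • a, add_mem (Submodule.smul_mem _ _ hv) (Submodule.smul_mem _ _ haW), ?_, ?_⟩
  · rw [P.q0_add, LinearMap.map_smulₛₗ, hv'a, P.q0_smul _ a haq, smul_eq_mul, mul_one, P.σσ,
      map_neg, ht]
    abel
  · rw [map_add, LinearMap.add_apply, hv'a, map_smul, LinearMap.smul_apply, P.self a haq,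
      smul_zero, add_zero]

variable [Finite V]

/-- The number of vectors pairing to one with a singular vector. -/
theorem card_unit_vecs {W : Submodule K V} {a : V} (hW : P.TS W) (ha : a ∉ W)
    (haq : P.q0 a = 0) (haW : a ∈ P.perp W) :
    Nat.card {v : SV P W // P.B v.1 a = 1} =
      Nat.card K ^ (finrank K V - finrank K W - 2) * Nat.card {t : K // P.τ t = 0} := by
  obtain ⟨v₀, hv₀, hv₀q, hv₀a⟩ := exists_transversal_vec (P := P) ha haq haW
  have hc : P.B a v₀ ≠ 0 := fun h => one_ne_zero (hv₀a.symm.trans (P.refl _ _ h))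
  set A := W ⊔ Submodule.span K {a} with hA
  set D := P.perp (A ⊔ Submodule.span K {v₀}) with hD
  have hmemD : ∀ d, d ∈ D ↔ d ∈ P.perp W ∧ P.B d a = 0 ∧ P.B d v₀ = 0 := fun d => by
    rw [hD, hA, P.perp_sup, P.perp_sup, Submodule.mem_inf, Submodule.mem_inf, P.mem_perp_span,
      P.mem_perp_span, and_assoc]
  have hq : ∀ d ∈ D, ∀ s : K, P.q0 (v₀ + d + P.σ s • a) = P.q0 (v₀ + d) + P.τ s := by
    intro d hd s
    rw [P.q0_add, P.q0_smul _ a haq, LinearMap.map_smulₛₗ, map_add, LinearMap.add_apply, hv₀a,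
      ((hmemD d).1 hd).2.1, add_zero, add_zero, smul_eq_mul, mul_one, P.σσ]
  have hmem : ∀ (d : D) (s : K), v₀ + (d : V) + P.σ s • a ∈ P.perp W := fun d s =>
    add_mem (add_mem hv₀ ((hmemD d).1 d.2).1) (Submodule.smul_mem _ _ haW)
  let e : {v : SV P W // P.B v.1 a = 1} ≃ Σ d : D, {s : K // P.τ s = -P.q0 (v₀ + d)} :=
    { toFun := fun v =>
        ⟨⟨v.1.1 - v₀ - ((P.B (v.1.1 - v₀) v₀) / P.B a v₀) • a, by
          rw [hmemD]
          refine ⟨sub_mem (sub_mem v.1.2.1 hv₀) (Submodule.smul_mem _ _ haW), ?_, ?_⟩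
          · simp [v.2, hv₀a, P.self a haq]
          · simp only [map_sub, map_smul, LinearMap.sub_apply, LinearMap.smul_apply, smul_eq_mul]
            field_simp
            ring⟩,
          ⟨P.σ ((P.B (v.1.1 - v₀) v₀) / P.B a v₀), by
            set r := (P.B (v.1.1 - v₀) v₀) / P.B a v₀
            have hd : v.1.1 - v₀ - r • a ∈ D := by
              rw [hmemD]
              refine ⟨sub_mem (sub_mem v.1.2.1 hv₀) (Submodule.smul_mem _ _ haW), ?_, ?_⟩
              · simp [v.2, hv₀a, P.self a haq]
              · simp only [r, map_sub, map_smul, LinearMap.sub_apply, LinearMap.smul_apply,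
                  smul_eq_mul]
                field_simp
                ring
            have h := hq _ hd (P.σ r)
            rw [P.σσ, show v₀ + (v.1.1 - v₀ - r • a) + r • a = v.1.1 by abel, v.1.2.2] at h
            exact eq_neg_of_add_eq_zero_right h.symm⟩⟩
      invFun := fun x => ⟨⟨v₀ + (x.1 : V) + P.σ x.2.1 • a, hmem _ _, by
        rw [hq _ x.1.2, x.2.2, add_neg_cancel]⟩, by
          simp [hv₀a, ((hmemD _).1 x.1.2).2.1, P.self a haq]⟩
      left_inv := fun v => Subtype.ext (Subtype.ext (by simp only [P.σσ]; abel))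
      right_inv := fun x => by
        obtain ⟨⟨d, hd⟩, ⟨s, hs⟩⟩ := x
        have hr : P.B (v₀ + d + P.σ s • a - v₀) v₀ / P.B a v₀ = P.σ s := by
          rw [show v₀ + d + P.σ s • a - v₀ = d + P.σ s • a by abel, map_add, LinearMap.add_apply,
            ((hmemD d).1 hd).2.2, map_smul, LinearMap.smul_apply, smul_eq_mul, zero_add,
            mul_div_cancel_right₀ _ hc]
        refine Sigma.subtype_ext (Subtype.ext ?_) ?_
        · show v₀ + d + P.σ s • a - v₀ - _ • a = d
          rw [hr]; abel
        · show P.σ (P.B (v₀ + d + P.σ s • a - v₀) v₀ / P.B a v₀) = s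
          rw [hr, P.σσ] }
  have hfib : ∀ d : D, Nat.card {s : K // P.τ s = -P.q0 (v₀ + d)} =
      Nat.card {t : K // P.τ t = 0} := fun d => by
    obtain ⟨t, ht⟩ := P.q0_range (v₀ + (d : V))
    exact Nat.card_congr ((Equiv.addRight t).subtypeEquiv fun s => by
      rw [Equiv.coe_addRight, map_add, ht, add_eq_zero_iff_eq_neg])
  letI : Fintype D := Fintype.ofFinite _
  rw [Nat.card_congr e, Nat.card_sigma, Finset.sum_congr rfl fun d _ => hfib d, Finset.sum_const,
    Finset.card_univ, ← Nat.card_eq_fintype_card, card_vec, smul_eq_mul]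
  congr 2
  have h1 := P.finrank_perp (A ⊔ Submodule.span K {v₀})
  have h2 : finrank K A = finrank K W + 1 := finrank_sup_span ha
  have h3 : v₀ ∉ A := fun h => by
    obtain ⟨x, hx, y, hy, e⟩ := Submodule.mem_sup.1 h
    obtain ⟨c, rfl⟩ := Submodule.mem_span_singleton.1 hy
    have : P.B v₀ a = 0 := by
      rw [← e, map_add, LinearMap.add_apply, map_smul, LinearMap.smul_apply, P.self a haq,
        smul_zero, add_zero]
      exact P.refl _ _ (haW x hx)
    exact one_ne_zero (hv₀a.symm.trans this)
  have h4 : finrank K ↥(A ⊔ Submodule.span K {v₀}) = finrank K A + 1 := finrank_sup_span h3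
  rw [← hD] at h1
  omega

theorem span_mem_pts {W : Submodule K V} (hW : P.TS W) (v : SV P W) (hv : v.1 ∉ W) :
    W ≤ W ⊔ Submodule.span K {v.1} ∧ P.TS (W ⊔ Submodule.span K {v.1}) ∧
      finrank K ↥(W ⊔ Submodule.span K {v.1}) = finrank K W + 1 :=
  ⟨le_sup_left, PForm.TS.sup_span P hW v.2.1 v.2.2, finrank_sup_span hv⟩

/-- The points not orthogonal to a point. -/
abbrev FarPts (P : PForm K V T) (W : Submodule K V) (a : V) : Type v :=
  {L : Pts P W // ¬ L.1 ≤ P.perp (W ⊔ Submodule.span K {a})}

theorem card_farPts {W : Submodule K V} {a : V} (hW : P.TS W) (ha : a ∉ W)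
    (haq : P.q0 a = 0) (haW : a ∈ P.perp W) :
    Nat.card (FarPts P W a) * Nat.card K ^ finrank K W =
      Nat.card K ^ (finrank K V - finrank K W - 2) * Nat.card {t : K // P.τ t = 0} := by
  classical
  rw [← card_unit_vecs hW ha haq haW, ← card_vec, ← Nat.card_prod]
  have hrep : ∀ L : FarPts P W a, ∃ v : SV P W, v.1 ∈ L.1.1 ∧ P.B v.1 a = 1 := by
    rintro ⟨⟨L, hWL, hL, hLd⟩, hfar⟩
    obtain ⟨v, hv, hvA⟩ := SetLike.not_le_iff_exists.1 hfar
    have hva : P.B v a ≠ 0 := fun h0 => hvA (by
      rw [P.perp_sup]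
      exact ⟨P.perp_anti hWL (hL.le_perp hv), P.mem_perp_span.2 h0⟩)
    refine ⟨⟨(P.B v a)⁻¹ • v, Submodule.smul_mem _ _ (P.perp_anti hWL (hL.le_perp hv)),
      hL.q0_eq _ (Submodule.smul_mem _ _ hv)⟩, Submodule.smul_mem _ _ hv, ?_⟩
    simp [hva]
  choose r hr hra using hrep
  have hne : ∀ v : SV P W, P.B v.1 a = 1 → v.1 ∉ W := fun v hv h =>
    one_ne_zero (hv.symm.trans (P.refl _ _ (haW _ h)))
  refine (Nat.card_congr (Equiv.ofBijective
    (fun x : FarPts P W a × W => (⟨⟨(r x.1).1 + (x.2 : V),
      add_mem (r x.1).2.1 (hW.le_perp x.2.2), by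
        rw [P.q0_add, (r x.1).2.2, hW.q0_eq _ x.2.2, (r x.1).2.1 _ x.2.2, map_zero, add_zero,
          add_zero]⟩, by
      rw [map_add, LinearMap.add_apply, hra, P.refl _ _ (haW _ x.2.2), add_zero]⟩ :
        {v : SV P W // P.B v.1 a = 1})) ⟨?_, ?_⟩)).symm ▸ rfl
  · rintro ⟨L, w⟩ ⟨L', w'⟩ h
    have h1 : (r L).1 + (w : V) = (r L').1 + (w' : V) :=
      congrArg (fun v : {v : SV P W // P.B v.1 a = 1} => v.1.1) h
    have hL : L = L' := by
      have key : ∀ (M : FarPts P W a), W ⊔ Submodule.span K {(r M).1} = M.1.1 := fun M =>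
        sup_eq_of_finrank M.1.2.1 (hr M) (hne _ (hra M)) M.1.2.2.2
      refine Subtype.ext (Subtype.ext ?_)
      rw [← key L, ← key L']
      have e : (r L).1 = (r L').1 + ((w' : V) - w) := by
        rw [← add_sub_assoc, ← h1, add_sub_cancel_right]
      refine le_antisymm (sup_le le_sup_left ?_) (sup_le le_sup_left ?_)
      · rw [Submodule.span_singleton_le_iff_mem, e]
        exact add_mem (Submodule.mem_sup_right (Submodule.mem_span_singleton_self _))
          (Submodule.mem_sup_left (sub_mem w'.2 w.2))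
      · rw [Submodule.span_singleton_le_iff_mem, show (r L').1 = (r L).1 + ((w : V) - w') by
          rw [← add_sub_assoc, h1, add_sub_cancel_right]]
        exact add_mem (Submodule.mem_sup_right (Submodule.mem_span_singleton_self _))
          (Submodule.mem_sup_left (sub_mem w.2 w'.2))
    subst hL
    exact Prod.ext rfl (Subtype.ext (add_left_cancel h1))
  · rintro ⟨v, hv⟩
    have hvW := hne v hv
    have hmem := span_mem_pts hW v hvW
    have hfar : ¬ W ⊔ Submodule.span K {v.1} ≤ P.perp (W ⊔ Submodule.span K {a}) := fun h =>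
      one_ne_zero (hv.symm.trans ((h (Submodule.mem_sup_right (Submodule.mem_span_singleton_self _)))
        a (Submodule.mem_sup_right (Submodule.mem_span_singleton_self _))))
    set L : FarPts P W a := ⟨⟨_, hmem⟩, hfar⟩
    obtain ⟨x, hx, y, hy, e⟩ := Submodule.mem_sup.1 (hr L : (r L).1 ∈ W ⊔ Submodule.span K {v.1})
    obtain ⟨c, rfl⟩ := Submodule.mem_span_singleton.1 hy
    have hc : c = 1 := by
      have h := hra L
      rw [← e, map_add, LinearMap.add_apply, P.refl _ _ (haW x hx), zero_add, map_smul,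
        LinearMap.smul_apply, hv, smul_eq_mul, mul_one] at h
      exact h
    subst hc
    refine ⟨(L, ⟨-x, neg_mem hx⟩), Subtype.ext (Subtype.ext ?_)⟩
    show (r L).1 + -x = v.1
    rw [← e, one_smul]; abel

/-- Modulo `|K|`, the points orthogonal to a point number one. -/
theorem card_pts_modEq {W : Submodule K V} {a : V} (hW : P.TS W) (ha : a ∉ W)
    (haq : P.q0 a = 0) (haW : a ∈ P.perp W) :
    ∃ s : ℕ, Nat.card (Pts P W) = Nat.card (FarPts P W a) + s ∧ s ≡ 1 [MOD Nat.card K] := by
  classical
  set A := W ⊔ Submodule.span K {a}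
  have hA : P.TS A := PForm.TS.sup_span P hW haW haq
  set near := {L : Pts P W // L.1 ≤ P.perp A}
  refine ⟨Nat.card near, ?_, ?_⟩
  · haveI : Finite (Submodule K V) := Finite.of_injective _ SetLike.coe_injective
    rw [← Nat.card_sum]
    exact Nat.card_congr ((Equiv.sumCompl fun L : Pts P W => L.1 ≤ P.perp A).symm.trans
      (Equiv.sumComm _ _))
  -- the singular vectors orthogonal to `A`
  let S : Set V := {v | v ∈ P.perp A ∧ P.q0 v = 0}
  have hdvd : Nat.card K ^ (finrank K W + 1) ∣ Nat.card S := by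
    rw [← finrank_sup_span ha, ← card_vec]
    exact card_dvd_of_translation fun v hv w hw => ⟨add_mem hv.1 (hA.le_perp hw), by
      rw [P.q0_add, hv.2, hA.q0_eq w hw, hv.1 w hw, map_zero, add_zero, add_zero]⟩
  have hWS : (W : Set V) ⊆ S := fun v hv =>
    ⟨hA.le_perp (Submodule.mem_sup_left hv), hW.q0_eq v hv⟩
  have hS : Nat.card S =
      Nat.card W + Nat.card near * (Nat.card K ^ (finrank K W + 1) - Nat.card K ^ finrank K W) := by
    have hline : ∀ L : near, Nat.card {v : L.1.1 // (v : V) ∉ W} =
        Nat.card K ^ (finrank K W + 1) - Nat.card K ^ finrank K W := by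
      intro L
      haveI := Fintype.ofFinite L.1.1
      rw [Nat.card_eq_fintype_card, Fintype.card_subtype_compl, ← Nat.card_eq_fintype_card,
        ← Nat.card_eq_fintype_card, card_vec, L.1.2.2.2]
      congr 1
      rw [← card_vec]
      exact Nat.card_congr
        { toFun := fun v => ⟨(v.1 : V), v.2⟩
          invFun := fun v => ⟨⟨v, L.1.2.1 v.2⟩, v.2⟩
          left_inv := fun v => rfl
          right_inv := fun v => rfl }
    have e1 : Nat.card {v : S // (v : V) ∉ W} = Nat.card (Σ L : near, {v : L.1.1 // (v : V) ∉ W}) := by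
      refine (Nat.card_congr (Equiv.ofBijective
        (fun x : Σ L : near, {v : L.1.1 // (v : V) ∉ W} =>
          (⟨⟨(x.2.1 : V), x.1.2 x.2.1.2, x.1.1.2.2.1.q0_eq _ x.2.1.2⟩, x.2.2⟩ :
            {v : S // (v : V) ∉ W})) ⟨?_, ?_⟩)).symm
      · rintro ⟨L, ⟨v, hv⟩, hvW⟩ ⟨L', ⟨v', hv'⟩, hvW'⟩ h
        have h1 : v = v' := congrArg (fun z : {v : S // (v : V) ∉ W} => (z.1 : V)) h
        subst h1
        obtain rfl : L = L' := Subtype.ext (Subtype.ext
          ((sup_eq_of_finrank L.1.2.1 hv hvW L.1.2.2.2).symm.trans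
            (sup_eq_of_finrank L'.1.2.1 hv' hvW' L'.1.2.2.2)))
        rfl
      · rintro ⟨⟨v, hv1, hv2⟩, hvW⟩
        refine ⟨⟨⟨⟨W ⊔ Submodule.span K {v}, span_mem_pts hW
          ⟨v, P.perp_anti le_sup_left hv1, hv2⟩ hvW⟩, sup_le
          ((le_sup_left : W ≤ A).trans hA.le_perp) ((Submodule.span_singleton_le_iff_mem _ _).2 hv1)⟩,
          ⟨v, Submodule.mem_sup_right (Submodule.mem_span_singleton_self v)⟩, hvW⟩, rfl⟩
    have e2 : Nat.card {v : S // (v : V) ∈ W} = Nat.card W := Nat.card_congr
      { toFun := fun v => ⟨(v.1 : V), v.2⟩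
        invFun := fun v => ⟨⟨v, hWS v.2⟩, v.2⟩
        left_inv := fun v => rfl
        right_inv := fun v => rfl }
    haveI : Finite (Submodule K V) := Finite.of_injective _ SetLike.coe_injective
    letI : Fintype near := Fintype.ofFinite _
    rw [← Nat.card_congr (Equiv.sumCompl fun v : S => (v : V) ∈ W), Nat.card_sum, e2, e1,
      Nat.card_sigma, Finset.sum_congr rfl fun L _ => hline L, Finset.sum_const, Finset.card_univ,
      ← Nat.card_eq_fintype_card, smul_eq_mul]
  obtain ⟨t, ht⟩ := hdvd
  rw [hS, card_vec] at ht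
  set q := Nat.card K
  set k := finrank K W
  have hq : 1 < q := Finite.one_lt_card
  have h1 : 1 + Nat.card near * (q - 1) = q * t := by
    refine Nat.eq_of_mul_eq_mul_left (pow_pos (by omega : 0 < q) k) ?_
    rw [mul_add, mul_one, ← mul_assoc (q ^ k) q, ← pow_succ, ← ht, mul_left_comm, mul_tsub, mul_one,
      ← pow_succ]
  rw [Nat.modEq_iff_dvd]
  refine ⟨(t : ℤ) - Nat.card near, ?_⟩
  have h2 : (1 : ℤ) + Nat.card near * ((q : ℤ) - 1) = q * t := by
    rw [show ((q : ℤ) - 1) = ((q - 1 : ℕ) : ℤ) by omega]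
    exact_mod_cast h1
  push_cast
  linear_combination h2

variable (hw : Witt P m)
include hw

/-- The number of flags opposite to a given one. -/
theorem card_opp : ∀ n k, k + n = m → ∀ a : Chamber P m,
    Nat.card {x : Chamber P m // Opp k a x} = ∏ j ∈ Finset.range n,
      (Nat.card K ^ (finrank K V - 2 * (k + j) - 2) * Nat.card {t : K // P.τ t = 0}) := by
  classical
  intro n
  induction n with
  | zero =>
    rintro k hk a
    obtain rfl : k = m := hk
    rw [Finset.range_zero, Finset.prod_empty, Nat.card_eq_one_iff_unique]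
    refine ⟨⟨fun x y => Subtype.ext (Chamber.ext' fun i _ hi => ?_)⟩,
      ⟨⟨a, fun j _ => rfl, fun i h1 h2 => by omega⟩⟩⟩
    rw [x.2.1 i hi, y.2.1 i hi]
  | succ n ih =>
    intro k hk a
    set W := a.sub k with hW
    have hWA : W ≤ a.sub (k + 1) := a.mono (by omega)
    have hdW : finrank K W = k := by rw [hW, a.rank]; omega
    have hdA : finrank K (a.sub (k + 1)) = k + 1 := by rw [a.rank]; omega
    obtain ⟨v, hv, hvW⟩ := SetLike.not_le_iff_exists.1 (fun h : a.sub (k + 1) ≤ W => by
      have := Submodule.finrank_mono h; omega)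
    have hA : W ⊔ Submodule.span K {v} = a.sub (k + 1) :=
      sup_eq_of_finrank hWA hv hvW (by omega)
    have hvW' : v ∈ P.perp W := P.perp_anti hWA ((a.ts _).le_perp hv)
    have hbase : ∀ L : FarPts P W v, ∃ x a' : Chamber P m, Agree k a x ∧ x.sub (k + 1) = L.1.1 ∧
        Agree (k + 1) x a' ∧ ∀ j, k + 1 < j → j ≤ m →
          a'.sub j = x.sub (k + 1) ⊔ (a.sub j ⊓ P.perp (x.sub (k + 1))) := by
      intro L
      obtain ⟨x, hx⟩ := hw.exists_chamber n (k + 1) (by omega)
        (fun j => if j ≤ k then a.sub j else L.1.1)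
        (fun j hj => by
          rcases le_or_gt j k with h | h
          · rw [if_pos h, a.rank]; omega
          · rw [if_neg (Nat.not_le.2 h), L.1.2.2.2, hdW]; omega)
        (fun j hj => by
          split_ifs with h h' h'
          · exact a.mono (by omega)
          · exact (a.mono (by omega : j ≤ k)).trans L.1.2.1
          · omega
          · exact le_rfl)
        (fun j hj => by
          split_ifs with h
          · exact a.ts j
          · exact L.1.2.2.1)
      have hxL : x.sub (k + 1) = L.1.1 := by rw [hx _ le_rfl, if_neg (by omega)]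
      have hxa : Agree k a x := fun j hj => by rw [hx j (by omega), if_pos hj]
      obtain ⟨a', h1, h2⟩ := exists_base hw (by omega) hxa (by rw [hxL, ← hA]; exact L.2)
      exact ⟨x, a', hxa, hxL, h1, h2⟩
    choose xL aL hxa hxL haL haL' using hbase
    have hfar : ∀ y : {y : Chamber P m // Opp k a y},
        W ≤ y.1.sub (k + 1) ∧ P.TS (y.1.sub (k + 1)) ∧
          finrank K (y.1.sub (k + 1)) = finrank K W + 1 := fun y =>
      ⟨(y.2.1 k le_rfl).ge.trans (y.1.mono (by omega)), y.1.ts _, by rw [y.1.rank, hdW]; omega⟩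
    have hfar' : ∀ y : {y : Chamber P m // Opp k a y},
        ¬ y.1.sub (k + 1) ≤ P.perp (W ⊔ Submodule.span K {v}) := by
      intro y h
      rw [hA] at h
      have h1 := y.2.2 (k + 1) (by omega) (by omega)
      rw [inf_eq_left.2 h] at h1
      have := congrArg (fun U : Submodule K V => finrank K U) h1
      simp only [y.1.rank, a.rank] at this
      omega
    have hopp : ∀ (L : FarPts P W v) (y : Chamber P m), Opp (k + 1) (aL L) y →
        Opp k a y ∧ y.sub (k + 1) = L.1.1 := fun L y hy =>
      ⟨opp_of_base hw (hxa L) (by rw [hxL L, ← hA]; exact L.2) (haL L) (haL' L) hy (by omega),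
        by rw [hy.1 _ le_rfl, haL L _ le_rfl, hxL L]⟩
    have hopp' : ∀ (L : FarPts P W v) (y : Chamber P m), Opp k a y → y.sub (k + 1) = L.1.1 →
        Opp (k + 1) (aL L) y := by
      intro L y hy hyL
      refine ⟨fun j hj => ?_, fun i hi him => ?_⟩
      · rw [haL L j hj]
        rcases Nat.lt_or_ge k j with h | h
        · obtain rfl : j = k + 1 := by omega
          rw [hxL, hyL]
        · rw [hy.1 j h, hxa L j h]
      rw [haL L (k + 1) le_rfl, hxL L]
      refine le_antisymm (fun u hu => ?_) ?_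
      · rw [haL' L i hi him, P.perp_sup, hxL L, Submodule.mem_inf, Submodule.mem_inf] at hu
        obtain ⟨hui, huL, hua⟩ := hu
        have hAL : ¬ a.sub (k + 1) ≤ P.perp L.1.1 := fun h =>
          L.2 (P.le_perp_comm.1 (hA.le.trans h))
        obtain ⟨z, hz, hzL⟩ := SetLike.not_le_iff_exists.1 hAL
        have hzL' : ∃ l ∈ L.1.1, P.B l z = 1 := by
          simp only [P.mem_perp', not_forall, exists_prop] at hzL
          obtain ⟨l, hl, hne⟩ := hzL
          exact ⟨(P.B l z)⁻¹ • l, Submodule.smul_mem _ _ hl, by simp [hne]⟩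
        obtain ⟨l, hl, hlz⟩ := hzL'
        -- correct `u` by a multiple of `l`
        set u' := u - P.B u z • l
        have hLy : L.1.1 ≤ y.sub i := hyL ▸ y.mono hi.le
        have hu'i : u' ∈ y.sub i := sub_mem hui (Submodule.smul_mem _ _ (hLy hl))
        have hu'a : u' ∈ P.perp (a.sub i) := by
          intro b hb
          -- split `b` along `a_i = (a_i ∩ L^⊥) + K z`
          have hbz : b - P.σ (P.B l b) • z ∈ a.sub i ⊓ P.perp L.1.1 := by
            refine ⟨sub_mem hb (Submodule.smul_mem _ _ (a.mono hi.le hz)), P.mem_perp'.2 fun l' hl' => ?_⟩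
            obtain ⟨w, hw', c, hc, rfl⟩ : ∃ w ∈ W, ∃ c ∈ Submodule.span K {l}, l' = w + c := by
              have hl0 : l ∉ W := fun h =>
                one_ne_zero (hlz.symm.trans ((a.ts (k + 1)).le_perp (hWA h) z hz))
              rw [← sup_eq_of_finrank L.1.2.1 hl hl0 (by rw [L.1.2.2.2])] at hl'
              obtain ⟨w, hw', c, hc, e⟩ := Submodule.mem_sup.1 hl'
              exact ⟨w, hw', c, hc, e.symm⟩
            obtain ⟨r, rfl⟩ := Submodule.mem_span_singleton.1 hc
            have hwb : ∀ z' ∈ a.sub i, P.B w z' = 0 := fun z' hz' =>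
              (a.ts i).le_perp ((a.mono (by omega : k ≤ i)) hw') z' hz'
            simp only [map_add, LinearMap.add_apply, map_sub, LinearMap.map_smulₛₗ, hwb b hb,
              hwb z (a.mono hi.le hz), map_smul, LinearMap.smul_apply, smul_eq_mul, hlz, P.σσ]
            ring
          have h0 : ∀ q ∈ a.sub i ⊓ P.perp L.1.1, P.B u' q = 0 := fun q hq => by
            simp only [u', map_sub, LinearMap.sub_apply, map_smul, LinearMap.smul_apply, hua q hq,
              P.refl _ _ (hq.2 l hl), smul_zero, sub_zero]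
          have hz0 : P.B u' z = 0 := by simp [u', hlz]
          have := h0 _ hbz
          rw [map_sub, LinearMap.map_smulₛₗ, hz0, smul_zero, sub_zero] at this
          exact this
        have hu'W : u' ∈ W := by
          have := (hy.2 i (by omega) him).le ⟨hu'i, hu'a⟩
          exact this
        rw [show u = u' + P.B u z • l by simp [u']]
        exact add_mem (L.1.2.1 hu'W) (Submodule.smul_mem _ _ hl)
      · have hLy : L.1.1 ≤ y.sub i := hyL.ge.trans (y.mono hi.le)
        refine le_inf hLy ?_
        rw [haL' L i hi him, hxL L]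
        exact (le_inf L.1.2.2.1.le_perp (P.le_perp_comm.1 inf_le_right)).trans (P.perp_sup _ _).ge
    let e : {y : Chamber P m // Opp k a y} ≃ Σ L : FarPts P W v,
        {y : Chamber P m // Opp (k + 1) (aL L) y} :=
      { toFun := fun y => ⟨⟨⟨y.1.sub (k + 1), hfar y⟩, hfar' y⟩, y.1, hopp' _ y.1 y.2 rfl⟩
        invFun := fun x => ⟨x.2.1, (hopp x.1 x.2.1 x.2.2).1⟩
        left_inv := fun y => rfl
        right_inv := fun x => Sigma.subtype_ext
          (Subtype.ext (Subtype.ext (hopp x.1 x.2.1 x.2.2).2)) rfl }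
    haveI : Finite (Submodule K V) := Finite.of_injective _ SetLike.coe_injective
    letI : Fintype (FarPts P W v) := Fintype.ofFinite _
    rw [Nat.card_congr e, Nat.card_sigma,
      Finset.sum_congr rfl fun L _ => ih (k + 1) (by omega) (aL L),
      Finset.sum_const, Finset.card_univ, ← Nat.card_eq_fintype_card, smul_eq_mul,
      Finset.prod_range_succ' _ n]
    rw [mul_comm, Finset.prod_congr rfl fun j _ => by
      rw [show k + 1 + j = k + (j + 1) by omega]]
    congr 1
    rw [add_zero]
    obtain ⟨M, hM, hMm⟩ := hw.exists_max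
    have hN : 2 * m ≤ finrank K V := by
      have h1 := Submodule.finrank_mono hM.le_perp
      have h2 := P.finrank_perp M
      omega
    refine Nat.eq_of_mul_eq_mul_right (pow_pos (Nat.card_pos (α := K)) (finrank K W)) ?_
    rw [card_farPts (hW ▸ a.ts k) hvW ((a.ts _).q0_eq v hv) hvW', mul_right_comm, ← pow_add, hdW]
    congr 2
    omega

end Cfsg.Agent.PolarSteinberg52
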