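import Mathlib.LinearAlgebra.SesquilinearForm.Basic
import Mathlib.LinearAlgebra.FiniteDimensional.Lemmas
import Mathlib.LinearAlgebra.Dual.Lemmas

/-!
Pseudo-quadratic forms, uniformly for the symplectic, hermitian and orthogonal spaces.
-/

set_option autoImplicit false

namespace Cfsg.Agent.PolarSteinberg52

universe u v w

/-- A form with its notion of singular vector. -/
structure PForm (K : Type u) (V : Type v) (T : Type w) [Field K] [AddCommGroup V] [Module K V]
    [AddCommGroup T] where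
  /-- the semilinearity -/
  σ : K →+* K
  σσ : ∀ c, σ (σ c) = c
  /-- the form -/
  B : V →ₗ[K] V →ₛₗ[σ] K
  /-- the pseudo-quadratic form -/
  q0 : V → T
  /-- the trace -/
  τ : K →+ T
  /-- the symmetry sign -/
  ε : K
  εε : ε * σ ε = 1
  symm : ∀ u v, B v u = ε * σ (B u v)
  τsymm : ∀ c, τ (ε * σ c) = τ c
  nondeg : ∀ u, (∀ v, B u v = 0) → u = 0
  q0_add : ∀ u v, q0 (u + v) = q0 u + q0 v + τ (B u v)
  q0_range : ∀ v, ∃ t, τ t = q0 v
  q0_smul : ∀ (c : K) v, q0 v = 0 → q0 (c • v) = 0
  self : ∀ v, q0 v = 0 → B v v = 0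

namespace PForm

variable {K : Type u} {V : Type v} {T : Type w} [Field K] [AddCommGroup V] [Module K V]
  [AddCommGroup T] (P : PForm K V T)

theorem refl (u v : V) (h : P.B u v = 0) : P.B v u = 0 := by rw [P.symm u v, h, map_zero, mul_zero]

theorem q0_zero : P.q0 0 = 0 := by
  have h := P.q0_add 0 0
  simp at h
  exact h

theorem comm_zero {u v : V} : P.B u v = 0 ↔ P.B v u = 0 := ⟨P.refl u v, P.refl v u⟩

/-- The orthogonal subspace. -/
def perp (W : Submodule K V) : Submodule K V where
  carrier := {v | ∀ w ∈ W, P.B v w = 0}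
  zero_mem' := fun w _ => by simp
  add_mem' := fun {a b} ha hb w hw => by simp [ha w hw, hb w hw]
  smul_mem' := fun c a ha w hw => by simp [ha w hw]

theorem mem_perp {W : Submodule K V} {v : V} : v ∈ P.perp W ↔ ∀ w ∈ W, P.B v w = 0 := Iff.rfl

theorem mem_perp' {W : Submodule K V} {v : V} : v ∈ P.perp W ↔ ∀ w ∈ W, P.B w v = 0 :=
  forall₂_congr fun _ _ => P.comm_zero

theorem perp_anti {W W' : Submodule K V} (h : W ≤ W') : P.perp W' ≤ P.perp W :=
  fun _ hv w hw => hv w (h hw)

theorem le_perp_comm {W W' : Submodule K V} : W ≤ P.perp W' ↔ W' ≤ P.perp W :=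
  ⟨fun h _ ha _ hb => P.refl _ _ (h hb _ ha), fun h _ ha _ hb => P.refl _ _ (h hb _ ha)⟩

theorem perp_bot : P.perp ⊥ = ⊤ := eq_top_iff.2 fun v _ w hw => by simp [(Submodule.mem_bot K).1 hw]

theorem perp_sup (W W' : Submodule K V) : P.perp (W ⊔ W') = P.perp W ⊓ P.perp W' := by
  refine le_antisymm (le_inf (P.perp_anti le_sup_left) (P.perp_anti le_sup_right)) ?_
  rintro v ⟨h1, h2⟩ w hw
  obtain ⟨a, ha, b, hb, rfl⟩ := Submodule.mem_sup.1 hw
  rw [map_add, h1 a ha, h2 b hb, add_zero]

theorem mem_perp_span {v a : V} : v ∈ P.perp (Submodule.span K {a}) ↔ P.B v a = 0 := by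
  refine ⟨fun h => h a (Submodule.mem_span_singleton_self a), fun h w hw => ?_⟩
  obtain ⟨c, rfl⟩ := Submodule.mem_span_singleton.1 hw
  rw [LinearMap.map_smulₛₗ, h, smul_zero]

/-- Totally singular. -/
structure TS (W : Submodule K V) : Prop where
  q0_eq : ∀ v ∈ W, P.q0 v = 0
  le_perp : W ≤ P.perp W

theorem TS.mono {W W' : Submodule K V} (h : P.TS W') (hle : W ≤ W') : P.TS W :=
  ⟨fun v hv => h.q0_eq v (hle hv), hle.trans (h.le_perp.trans (P.perp_anti hle))⟩

theorem ts_bot : P.TS ⊥ :=
  ⟨fun v hv => by rw [(Submodule.mem_bot K).1 hv, P.q0_zero], bot_le⟩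

theorem TS.sup_span {W : Submodule K V} (h : P.TS W) {v : V} (hv : v ∈ P.perp W)
    (hq : P.q0 v = 0) : P.TS (W ⊔ Submodule.span K {v}) := by
  refine ⟨fun x hx => ?_, ?_⟩
  · obtain ⟨w, hw, y, hy, rfl⟩ := Submodule.mem_sup.1 hx
    obtain ⟨c, rfl⟩ := Submodule.mem_span_singleton.1 hy
    rw [P.q0_add, h.q0_eq w hw, P.q0_smul c v hq, LinearMap.map_smulₛₗ, P.refl _ _ (hv w hw),
      smul_zero, map_zero, add_zero, add_zero]
  · rw [P.perp_sup]
    refine sup_le (le_inf h.le_perp ?_) (le_inf ?_ ?_)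
    · exact fun w hw => P.mem_perp_span.2 (P.refl _ _ (hv w hw))
    · exact (Submodule.span_singleton_le_iff_mem v _).2 hv
    · exact (Submodule.span_singleton_le_iff_mem v _).2 (P.mem_perp_span.2 (P.self v hq))

theorem TS.sup {W W' : Submodule K V} (h : P.TS W) (h' : P.TS W') (hp : W ≤ P.perp W') :
    P.TS (W ⊔ W') := by
  refine ⟨fun x hx => ?_, ?_⟩
  · obtain ⟨w, hw, y, hy, rfl⟩ := Submodule.mem_sup.1 hx
    rw [P.q0_add, h.q0_eq w hw, h'.q0_eq y hy, hp hw y hy, map_zero, add_zero, add_zero]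
  · rw [P.perp_sup]
    exact sup_le (le_inf h.le_perp hp) (le_inf (P.le_perp_comm.1 hp) h'.le_perp)

variable [FiniteDimensional K V]

open Module

theorem finrank_perp (W : Submodule K V) :
    finrank K (P.perp W) + finrank K W = finrank K V := by
  classical
  set b := finBasis K W
  let f : V →ₗ[K] (Fin (finrank K W) → K) :=
    { toFun := fun v i => P.B v (b i : V)
      map_add' := fun u v => by ext i; simp
      map_smul' := fun c v => by ext i; simp }
  have hsurj : LinearMap.range f = ⊤ := by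
    by_contra hne
    obtain ⟨φ, hφ0, hφ⟩ :=
      Submodule.exists_dual_map_eq_bot_of_lt_top (lt_top_iff_ne_top.2 hne) inferInstance
    let c : Fin (finrank K W) → K := fun i => P.σ (φ (Pi.single i 1))
    have hz : ∑ i, c i • (b i : V) = 0 := by
      refine P.nondeg _ fun v => P.refl _ _ ?_
      have h0 : φ (f v) = 0 := by
        have : φ (f v) ∈ (LinearMap.range f).map φ := ⟨f v, ⟨v, rfl⟩, rfl⟩
        rwa [hφ, Submodule.mem_bot] at this
      rw [map_sum, ← h0]
      conv_rhs => rw [pi_eq_sum_univ (f v), map_sum]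
      refine Finset.sum_congr rfl fun i _ => ?_
      rw [LinearMap.map_smulₛₗ, map_smul, smul_eq_mul, smul_eq_mul,
        show (fun j => if i = j then (1 : K) else 0) = Pi.single i 1 by
          ext j; simp [Pi.single_apply, eq_comm]]
      show P.σ (P.σ (φ (Pi.single i 1))) * _ = f v i * _
      rw [P.σσ, mul_comm]
      rfl
    have hz' : ∑ i, c i • b i = 0 := Subtype.ext (by simpa [Submodule.coe_sum] using hz)
    have hc := Fintype.linearIndependent_iff.1 b.linearIndependent c hz'
    refine hφ0 (LinearMap.pi_ext' fun i => LinearMap.ext_ring ?_)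
    have := congrArg P.σ (hc i)
    simp only [c, P.σσ, map_zero] at this
    simpa using this
  have hker : LinearMap.ker f = P.perp W := by
    ext v
    refine ⟨fun h w hw => ?_, fun h => funext fun i => h _ (b i).2⟩
    have e : w = ∑ i, b.repr ⟨w, hw⟩ i • (b i : V) := by
      have h1 := congrArg Subtype.val (b.sum_repr ⟨w, hw⟩)
      simp only [Submodule.coe_sum, Submodule.coe_smul] at h1
      exact h1.symm
    rw [e, map_sum]
    refine Finset.sum_eq_zero fun i _ => ?_
    rw [LinearMap.map_smulₛₗ, show P.B v (b i : V) = f v i from rfl, (LinearMap.mem_ker.1 h),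
      Pi.zero_apply, smul_zero]
  have := f.finrank_range_add_finrank_ker
  rw [hsurj, finrank_top, finrank_fin_fun, hker] at this
  omega

theorem perp_perp (W : Submodule K V) : P.perp (P.perp W) = W := by
  refine (Submodule.eq_of_le_of_finrank_eq (P.le_perp_comm.1 le_rfl) ?_).symm
  have h1 := P.finrank_perp W
  have h2 := P.finrank_perp (P.perp W)
  omega

/-- A totally singular subspace smaller than another extends inside it. -/
theorem TS.exists_extend {W M : Submodule K V} (_hW : P.TS W) (hM : P.TS M)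
    (hlt : finrank K W < finrank K M) : ∃ v ∈ M, v ∈ P.perp W ∧ v ∉ W := by
  by_contra hno
  push Not at hno
  have hle : M ⊓ P.perp W ≤ M ⊓ W := fun v hv => ⟨hv.1, hno v hv.1 hv.2⟩
  have hsup : M ⊔ P.perp W ≤ P.perp (M ⊓ W) :=
    sup_le (hM.le_perp.trans (P.perp_anti inf_le_left)) (P.perp_anti inf_le_right)
  have h1 := Submodule.finrank_mono hsup
  have h2 := Submodule.finrank_mono hle
  have h3 := P.finrank_perp (M ⊓ W)
  have h4 := P.finrank_perp W
  have h5 := Submodule.finrank_sup_add_finrank_inf_eq M (P.perp W)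
  omega

end PForm

end Cfsg.Agent.PolarSteinberg52
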