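import Cfsg.Agent.PolarSteinberg52.Orthogonal
import Cfsg.Agent.Lib.UnitaryOrthogonal.OrthThree
import Cfsg.Agent.Lib.UnitaryOrthogonal.OrthFourPlus
import Cfsg.Agent.Lib.UnitaryOrthogonal.OrthFourMinus
import Cfsg.Agent.S2544

/-!
The three orthogonal families.
-/

set_option autoImplicit false

namespace Cfsg.Agent.PolarSteinberg52

open Module Cfsg.Agent.UnitaryOrthogonal

universe u

section group

variable {G : Type u} [Group G] [Finite G]

theorem hasSteinberg_of_card {p : ℕ} [Fact p.Prime] {r : ℕ} (hG : Nat.card G = 2 * r)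
    (hr : ¬ p ∣ r) : HasSteinberg p (↥(commutator G) ⧸ Subgroup.center ↥(commutator G)) := by
  refine hasSteinberg_of_not_dvd fun h => ?_
  have hC : p ∣ Nat.card ↥(commutator G) := h.trans (Subgroup.card_quotient_dvd_card _)
  have hp : p.Prime := Fact.out
  rcases hp.dvd_mul.1 (hG ▸ hC.trans (Subgroup.card_subgroup_dvd_card _)) with h2 | h2
  · obtain rfl : p = 2 := (Nat.prime_dvd_prime_iff_eq hp Nat.prime_two).1 h2
    exact odd_card_commutator (fun h4 => hr (by rw [hG] at h4; omega)) hC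
  · exact hr h2

/-- The derived group of a group of order eight has order at most two. -/
theorem card_commutator_dvd_two (hG : Nat.card G = 8) : Nat.card ↥(commutator G) ∣ 2 := by
  haveI : Fact (Nat.Prime 2) := ⟨Nat.prime_two⟩
  have hP : IsPGroup 2 G := IsPGroup.of_card (n := 3) (by rw [hG]; rfl)
  haveI : Nontrivial G := Finite.one_lt_card_iff_nontrivial.1 (by omega)
  have hbot : (∀ a b : G, a * b = b * a) → Nat.card ↥(commutator G) ∣ 2 := fun h => by
    rw [show commutator G = ⊥ from eq_bot_iff.2 (by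
      rw [commutator_def, Subgroup.commutator_le]
      intro a _ b _
      rw [Subgroup.mem_bot, commutatorElement_eq_one_iff_mul_comm]
      exact h a b), Subgroup.card_bot]
    exact one_dvd 2
  have hcard := (Subgroup.center G).card_eq_card_quotient_mul_card_subgroup
  rw [hG] at hcard
  obtain ⟨k, hk3, hk⟩ := (Nat.dvd_prime_pow Nat.prime_two (m := 3)).1
    ((Subgroup.card_subgroup_dvd_card (Subgroup.center G)).trans (dvd_of_eq (hG.trans rfl)))
  rcases Nat.lt_or_ge k 2 with hk2 | hk2
  · have hk1 : k = 1 := by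
      rcases Nat.eq_zero_or_pos k with rfl | h
      · haveI := hP.center_nontrivial
        have := Finite.one_lt_card (α := Subgroup.center G)
        omega
      · omega
    subst hk1
    rw [hk, pow_one] at hcard
    rw [← pow_one 2, ← hk]
    have hq : Nat.card (G ⧸ Subgroup.center G) = 2 ^ 2 := by omega
    refine Subgroup.card_dvd_of_le ?_
    rw [commutator_def, Subgroup.commutator_le]
    intro a _ b _
    rw [← QuotientGroup.eq_one_iff, ← QuotientGroup.mk'_apply, map_commutatorElement,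
      commutatorElement_eq_one_iff_mul_comm]
    exact IsPGroup.commutative_of_card_eq_prime_sq hq _ _
  · have hle : Nat.card (G ⧸ Subgroup.center G) ≤ 2 := by
      have : 2 ^ 2 ≤ Nat.card (Subgroup.center G) := hk ▸ Nat.pow_le_pow_right two_pos hk2
      nlinarith
    haveI : IsCyclic (G ⧸ Subgroup.center G) := by
      rcases Nat.lt_or_ge (Nat.card (G ⧸ Subgroup.center G)) 2 with h | h
      · have hpos := Nat.card_pos (α := G ⧸ Subgroup.center G)
        haveI := (Nat.card_eq_one_iff_unique.1 (by omega :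
          Nat.card (G ⧸ Subgroup.center G) = 1)).1
        exact isCyclic_of_subsingleton
      · exact isCyclic_of_prime_card (p := 2) (by omega)
    exact hbot (commutative_of_cyclic_center_quotient (QuotientGroup.mk' _)
      (QuotientGroup.ker_mk' _).le)

end group

section families

variable {F : Type*} [Field F] [Fintype F] (p : ℕ) [Fact p.Prime] [CharP F p]

theorem exists_q_eq : ∃ k, 0 < k ∧ Nat.card F = p ^ k := by
  obtain ⟨k, -, hk⟩ := FiniteField.card F p
  exact ⟨k, k.pos, by rw [Nat.card_eq_fintype_card, hk]⟩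

theorem not_dvd_prod (q m : ℕ) (hpq : p ∣ q) (hq : 0 < q) :
    ¬ p ∣ ∏ i ∈ Finset.range m, (q ^ (2 * (i + 1)) - 1) := by
  intro h
  obtain ⟨i, -, hi⟩ := (Fact.out : p.Prime).prime.exists_mem_finset_dvd h
  exact not_dvd_pow_sub_one Fact.out hpq hq (by omega) hi

theorem not_dvd_pow_add_one (q k : ℕ) (hpq : p ∣ q) (hk : k ≠ 0) : ¬ p ∣ q ^ k + 1 := fun h =>
  (Fact.out : p.Prime).not_dvd_one ((Nat.dvd_add_right (hpq.trans (dvd_pow_self q hk))).1 h)

theorem prod_plus_pow (q : ℕ) : ∀ m : ℕ,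
    ∏ j ∈ Finset.range (m + 1), q ^ (2 * (m + 1) - 2 * j - 2) = q ^ ((m + 1) * m) := by
  intro m
  induction m with
  | zero => simp
  | succ m ih =>
    rw [Finset.prod_range_succ']
    have h : ∀ j, 2 * (m + 1 + 1) - 2 * (j + 1) - 2 = 2 * (m + 1) - 2 * j - 2 := fun j => by omega
    simp only [h, ih, mul_zero, Nat.sub_zero, ← pow_add]
    congr 1
    rw [show 2 * (m + 1 + 1) - 2 = 2 * m + 2 by omega]
    ring

theorem prod_minus_pow (q : ℕ) : ∀ m : ℕ,
    ∏ j ∈ Finset.range m, q ^ (2 * m + 2 - 2 * j - 2) = q ^ ((m + 1) * m) := by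
  intro m
  induction m with
  | zero => simp
  | succ m ih =>
    rw [Finset.prod_range_succ']
    have h : ∀ j, 2 * (m + 1) + 2 - 2 * (j + 1) - 2 = 2 * m + 2 - 2 * j - 2 := fun j => by omega
    simp only [h, ih, mul_zero, Nat.sub_zero, ← pow_add]
    congr 1
    rw [show 2 * (m + 1) + 2 - 2 = 2 * m + 2 by omega]
    ring

omit [Fintype F] in
theorem two_eq_zero_iff_char : (2 : F) = 0 ↔ p = 2 := by
  constructor
  · intro h
    have h' : ((2 : ℕ) : F) = 0 := by exact_mod_cast h
    rw [CharP.cast_eq_zero_iff F p] at h'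
    exact (Nat.prime_dvd_prime_iff_eq Fact.out Nat.prime_two).1 h'
  · rintro rfl; exact CharP.cast_eq_zero F 2

theorem pomega_odd_steinberg (hodd : Odd (Fintype.card F)) (m : ℕ) (hm : 1 ≤ m) :
    HasSteinberg p (Cfsg.POmega F (Cfsg.quadFormOdd m F)) := by
  have h2 : (2 : F) ≠ 0 := two_ne_zero_of_card_odd hodd
  rcases m with _ | _ | k
  · omega
  · obtain ⟨e⟩ := pomega_three_equiv (F := F) h2
    exact HasSteinberg.congr (S2544.result (F := F) p 2 le_rfl) e
  obtain ⟨hgen, -, hcard, hcent⟩ := omega_facts (qOdd (k + 2) F) (qOdd_apply (k + 2)) k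
    (qOddIso (k + 2) F) (polarND_sqForm h2) reflGroup_sqForm (Or.inr ⟨(1 : F), by simp⟩)
  refine omega_steinberg (qOdd (k + 2) F) (qOdd_apply (k + 2)) (qOddIso (k + 2) F)
    (polarND_sqForm h2) (fun w hw => mul_self_eq_zero.1 hw) (by rw [Module.finrank_self]; omega)
    hgen hcent ?_
  obtain ⟨e, he, hq⟩ := exists_q_eq (F := F) p
  have hpq : p ∣ Nat.card F := hq ▸ dvd_pow_self p he.ne'
  rw [omega_pow_factorization hq Nat.card_pos.ne'
    ((hcard h2 (hbase_sqForm h2)).trans (card_orth_odd h2 (k + 2)))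
    (fun h => absurd ((two_eq_zero_iff_char p).2 h) h2) (fun _ => rfl)
    (not_dvd_prod p _ (k + 2) hpq Nat.card_pos), ← prod_odd_pow, ← Nat.card_eq_fintype_card,
    Module.finrank_self]
  exact Finset.prod_congr rfl fun j _ => by congr 1; omega

theorem plus_two_two (hq : Nat.card F = 2) :
    haveI : Fact (Nat.Prime 2) := ⟨Nat.prime_two⟩
    HasSteinberg 2 (Cfsg.POmega F (Cfsg.quadFormPlus 2 F)) := by
  classical
  haveI : Fact (Nat.Prime 2) := ⟨Nat.prime_two⟩
  haveI : Fact (Nat.Prime 3) := ⟨Nat.prime_three⟩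
  let φ : Cfsg.isometryGroup F (Cfsg.quadFormPlus 2 F) ≃* orth (hyp (mulForm F)) :=
    (plusEquiv 2 F).trans (orthCongr ((hypSumSucc (zeroForm F) 1).trans (hypCongr (hypSumOneIso F))))
  let f := φ.symm.toMonoidHom.comp (pairOrth.comp (slPairs F))
  have hSL : Nat.card (Matrix.SpecialLinearGroup (Fin 2) F) = 6 := by
    rw [LinearGroup.card_SL_two, hq]
    norm_num
  have hZ : Nat.card (Subgroup.center (Matrix.SpecialLinearGroup (Fin 2) F)) = 1 := by
    rw [LinearGroup.card_center_SL, Fintype.card_fin, hq]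
    norm_num
  have hinj : Function.Injective f := (injective_iff_map_eq_one f).2 fun y hy => by
    have hy' : y ∈ (pairOrth.comp (slPairs F)).ker := φ.symm.injective (hy.trans (map_one _).symm)
    obtain ⟨h1, h2⟩ := mem_ker_pairOrth.1 hy'
    rw [Subgroup.card_eq_one] at hZ
    rw [hZ, Subgroup.mem_bot] at h1
    exact Prod.ext h1 (h2.trans h1)
  have hO : Nat.card (Cfsg.isometryGroup F (Cfsg.quadFormPlus 2 F)) = 72 := by
    rw [Nat.card_congr (plusEquiv 2 F).toEquiv, card_orth_plus 1, Finset.prod_range_one, hq]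
    norm_num
  have hR : Nat.card f.range = 36 := by
    rw [← Nat.card_congr (MonoidHom.ofInjective hinj).toEquiv, Nat.card_prod, hSL]
  have hRi : f.range.index = 2 := by
    have := f.range.card_mul_index
    rw [hR, hO] at this
    omega
  haveI hRn : f.range.Normal := Subgroup.normal_of_index_eq_two hRi
  obtain ⟨S⟩ : Nonempty (Sylow 3 (Matrix.SpecialLinearGroup (Fin 2) F)) := inferInstance
  have hS : Nat.card S = 3 := by
    rw [S.card_eq_multiplicity, hSL, show (6 : ℕ) = 3 * 2 from rfl,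
      Nat.factorization_mul (by norm_num) (by norm_num), Finsupp.add_apply,
      Nat.prime_three.factorization_self, Nat.factorization_eq_zero_of_not_dvd (by norm_num)]
    rfl
  have hSi : (S : Subgroup (Matrix.SpecialLinearGroup (Fin 2) F)).index = 2 := by
    have := (S : Subgroup (Matrix.SpecialLinearGroup (Fin 2) F)).card_mul_index
    rw [hS, hSL] at this
    omega
  have hSmem : ∀ a, a ^ 9 = 1 ↔ a ∈ (S : Subgroup (Matrix.SpecialLinearGroup (Fin 2) F)) := by
    intro a
    constructor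
    · intro ha
      have h2 := pow_mem (Subgroup.sq_mem_of_index_two hSi a) 5
      rw [← pow_mul, show 2 * 5 = 9 + 1 from rfl, pow_add, ha, one_mul, pow_one] at h2
      exact h2
    · intro ha
      have h3 : a ^ Nat.card S = 1 := congrArg Subtype.val
        (pow_card_eq_one' (x := (⟨a, ha⟩ : (S : Subgroup (Matrix.SpecialLinearGroup (Fin 2) F)))))
      rw [hS] at h3
      rw [show 9 = 3 * 3 from rfl, pow_mul, h3, one_pow]
  let N₀ := ((S : Subgroup (Matrix.SpecialLinearGroup (Fin 2) F)).prod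
    (S : Subgroup (Matrix.SpecialLinearGroup (Fin 2) F))).map f
  have hN₀ : Nat.card N₀ = 9 := by
    rw [Subgroup.card_map_of_injective hinj, Nat.card_congr (Subgroup.prodEquiv _ _).toEquiv,
      Nat.card_prod, hS]
  haveI hN₀n : N₀.Normal := by
    refine ⟨fun x hx g => ?_⟩
    obtain ⟨y, hy, rfl⟩ := hx
    obtain ⟨y', hy'⟩ := hRn.conj_mem (f y) ⟨y, rfl⟩ g
    have h9 : y ^ 9 = 1 := Prod.ext ((hSmem _).2 hy.1) ((hSmem _).2 hy.2)
    have h9' : y' ^ 9 = 1 := hinj (by rw [map_pow, hy', conj_pow, ← map_pow, h9, map_one, mul_one,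
      mul_inv_cancel])
    exact ⟨y', ⟨(hSmem _).1 (congrArg Prod.fst h9'), (hSmem _).1 (congrArg Prod.snd h9')⟩, hy'⟩
  let π := QuotientGroup.mk' N₀
  have hQ8 : Nat.card (Cfsg.isometryGroup F (Cfsg.quadFormPlus 2 F) ⧸ N₀) = 8 := by
    have := N₀.card_eq_card_quotient_mul_card_subgroup
    rw [hN₀, hO] at this
    omega
  let C := commutator (Cfsg.isometryGroup F (Cfsg.quadFormPlus 2 F))
  have hidx : (N₀.subgroupOf C).index ∣ 2 := by
    have hk : N₀.subgroupOf C = (π.comp C.subtype).ker := by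
      ext x
      rw [Subgroup.mem_subgroupOf, MonoidHom.mem_ker, MonoidHom.comp_apply]
      exact (QuotientGroup.eq_one_iff _).symm
    rw [hk, Subgroup.index_ker, MonoidHom.range_comp, Subgroup.range_subtype]
    show Nat.card ↥((commutator _).map π) ∣ 2
    rw [commutator_def, Subgroup.map_commutator,
      Subgroup.map_top_of_surjective _ (QuotientGroup.mk'_surjective N₀), ← commutator_def]
    exact card_commutator_dvd_two hQ8
  refine hasSteinberg_two (N₀.subgroupOf C) (fun a ha b hb => Subtype.ext ?_) ?_ hidx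
  · exact (congrArg Subtype.val (IsPGroup.commutative_of_card_eq_prime_sq (p := 3) (G := ↥N₀)
      (show Nat.card ↥N₀ = 3 ^ 2 by rw [hN₀]; rfl) ⟨(a : _), ha⟩ ⟨(b : _), hb⟩) :)
  · intro h
    have h' := h.trans (Subgroup.card_dvd_of_injective
      ({ toFun := fun x => ⟨x.1.1, x.2⟩, map_one' := rfl, map_mul' := fun _ _ => rfl } :
        ↥(N₀.subgroupOf C) →* ↥N₀) (fun x y hxy => Subtype.ext (Subtype.ext
          (congrArg Subtype.val hxy :))))
    rw [hN₀] at h'
    norm_num at h'

theorem pomega_plus_steinberg (m : ℕ) (hm : 1 ≤ m) :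
    HasSteinberg p (Cfsg.POmega F (Cfsg.quadFormPlus m F)) := by
  obtain ⟨e, he, hq⟩ := exists_q_eq (F := F) p
  have hpq : p ∣ Nat.card F := hq ▸ dvd_pow_self p he.ne'
  rcases m with _ | _ | k
  · omega
  · refine hasSteinberg_of_card (r := Nat.card F ^ 1 - 1) ?_
      (not_dvd_pow_sub_one Fact.out hpq Nat.card_pos le_rfl)
    rw [Nat.card_congr (plusEquiv 1 F).toEquiv, card_orth_plus 0]
    simp
  rcases k with _ | k
  · by_cases h3 : 3 ≤ Nat.card F
    · obtain ⟨φ⟩ := pomega_four_plus_equiv (F := F) h3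
      exact HasSteinberg.congr
        (HasSteinberg.prod (S2544.result (F := F) p 2 le_rfl) (S2544.result (F := F) p 2 le_rfl)) φ
    · have hq2 : Nat.card F = 2 := by have := Finite.one_lt_card (α := F); omega
      obtain rfl : p = 2 := (Nat.prime_dvd_prime_iff_eq Fact.out Nat.prime_two).1 (hq2 ▸ hpq)
      exact plus_two_two hq2
  obtain ⟨hgen, htwo, hcard, hcent⟩ := omega_facts (qPlus (k + 1 + 2) F) (qPlus_apply _) (k + 1)
    (qPlusIso (k + 1 + 2) F) polarND_zeroForm reflGroup_zeroForm (Or.inl (Nat.le_add_left 1 k))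
  refine omega_steinberg (qPlus (k + 1 + 2) F) (qPlus_apply _) (qPlusIso (k + 1 + 2) F)
    polarND_zeroForm (fun w _ => Subsingleton.elim _ _)
    (by rw [Module.finrank_zero_of_subsingleton]; omega) hgen hcent ?_
  have hr : ¬ p ∣ (Nat.card F ^ (k + 3) - 1) *
      ∏ i ∈ Finset.range (k + 2), (Nat.card F ^ (2 * (i + 1)) - 1) := fun h =>
    ((Fact.out : p.Prime).dvd_mul.1 h).elim
      (not_dvd_pow_sub_one Fact.out hpq Nat.card_pos (by omega))
      (not_dvd_prod p _ _ hpq Nat.card_pos)
  have hord : ∀ idx, idx * Nat.card ↥(commutator (Cfsg.isometryGroup F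
      (Cfsg.quadFormPlus (k + 1 + 2) F))) = Nat.card (orth (hypSum (k + 1 + 2) (zeroForm F))) →
      (p = 2 → idx = 2) → (p ≠ 2 → idx = 4) →
      p ^ (Nat.card ↥(commutator (Cfsg.isometryGroup F
        (Cfsg.quadFormPlus (k + 1 + 2) F)))).factorization p = Nat.card F ^ ((k + 3) * (k + 2)) :=
    fun idx h h2 h4 => omega_pow_factorization hq Nat.card_pos.ne'
      (h.trans ((card_orth_plus (k + 2)).trans (mul_assoc _ _ _))) h2 h4 hr
  rw [Module.finrank_zero_of_subsingleton, ← Nat.card_eq_fintype_card]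
  by_cases hp2 : p = 2
  · rw [hord 2 (htwo ((two_eq_zero_iff_char p).2 hp2)) (fun _ => rfl) (absurd hp2), ← prod_plus_pow]
    simp only [show k + 2 + 1 = k + 1 + 2 by omega, add_zero]
  · have h2 : (2 : F) ≠ 0 := fun h => hp2 ((two_eq_zero_iff_char p).1 h)
    rw [hord 4 (hcard h2 (hbase_zeroForm h2)) (fun h => absurd h hp2) (fun _ => rfl), ← prod_plus_pow]
    simp only [show k + 2 + 1 = k + 1 + 2 by omega, add_zero]

theorem pomega_minus_steinberg (m : ℕ) {a b : F} (hab : BinAniso a b) :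
    HasSteinberg p (Cfsg.POmega F (Cfsg.quadFormMinus m F a b)) := by
  obtain ⟨e, he, hq⟩ := exists_q_eq (F := F) p
  have hpq : p ∣ Nat.card F := hq ▸ dvd_pow_self p he.ne'
  rcases m with _ | _ | k
  · refine hasSteinberg_of_card (r := Nat.card F ^ 1 + 1) ?_
      (not_dvd_pow_add_one p _ 1 hpq one_ne_zero)
    rw [Nat.card_congr (minusEquiv 0 F a b).toEquiv, card_orth_minus hab 0]
    simp
  · haveI := hab.fact
    haveI : Finite (QuadraticAlgebra F (-b) a) :=
      Finite.of_equiv _ (QuadraticAlgebra.equivProd (-b) a).symm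
    haveI : Fintype (QuadraticAlgebra F (-b) a) := Fintype.ofFinite _
    haveI : CharP (QuadraticAlgebra F (-b) a) p :=
      charP_of_injective_algebraMap (algebraMap F (QuadraticAlgebra F (-b) a)).injective p
    obtain ⟨φ⟩ := pomega_four_minus_equiv (F := F) (K := QuadraticAlgebra F (-b) a)
      (quadExt_card _ _) hab
    exact HasSteinberg.congr (S2544.result (F := QuadraticAlgebra F (-b) a) p 2 le_rfl) φ
  obtain ⟨hgen, htwo, hcard, hcent⟩ := omega_facts (qMinus (k + 2) F a b) (qMinus_apply _ a b) k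
    (qMinusIso (k + 2) F a b) hab.polarND hab.reflGroup_eq_top
    (Or.inr (exists_binForm_ne_zero a b))
  refine omega_steinberg (qMinus (k + 2) F a b) (qMinus_apply _ a b) (qMinusIso (k + 2) F a b)
    hab.polarND (fun w hw => hab.eq_zero hw)
    (by rw [Module.finrank_prod, Module.finrank_self]) hgen hcent ?_
  have hr : ¬ p ∣ (Nat.card F ^ (k + 3) + 1) *
      ∏ i ∈ Finset.range (k + 2), (Nat.card F ^ (2 * (i + 1)) - 1) := fun h =>
    ((Fact.out : p.Prime).dvd_mul.1 h).elim
      (not_dvd_pow_add_one p _ _ hpq (Nat.succ_ne_zero _))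
      (not_dvd_prod p _ _ hpq Nat.card_pos)
  have hord : ∀ idx, idx * Nat.card ↥(commutator (Cfsg.isometryGroup F
      (Cfsg.quadFormMinus (k + 2) F a b))) = Nat.card (orth (hypSum (k + 2) (binForm a b))) →
      (p = 2 → idx = 2) → (p ≠ 2 → idx = 4) →
      p ^ (Nat.card ↥(commutator (Cfsg.isometryGroup F
        (Cfsg.quadFormMinus (k + 2) F a b)))).factorization p = Nat.card F ^ ((k + 3) * (k + 2)) :=
    fun idx h h2 h4 => omega_pow_factorization hq Nat.card_pos.ne'
      (h.trans ((card_orth_minus hab (k + 2)).trans (mul_assoc _ _ _))) h2 h4 hr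
  rw [Module.finrank_prod, Module.finrank_self, ← Nat.card_eq_fintype_card]
  by_cases hp2 : p = 2
  · rw [hord 2 (htwo ((two_eq_zero_iff_char p).2 hp2)) (fun _ => rfl) (absurd hp2), ← prod_minus_pow]
  · have h2 : (2 : F) ≠ 0 := fun h => hp2 ((two_eq_zero_iff_char p).1 h)
    rw [hord 4 (hcard h2 (hbase_binForm hab h2)) (fun h => absurd h hp2) (fun _ => rfl),
      ← prod_minus_pow]

end families

end Cfsg.Agent.PolarSteinberg52
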